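import Cfsg.Agent.FGS77.PLengthArith

/-!
The upper `p`-series and a quotient by one of its terms.
-/

set_option autoImplicit false

namespace Cfsg.Agent.TwoLen59

open Subgroup Cfsg.Agent.FGS77.PLengthArith

universe u

variable {G : Type u} [Group G] [Finite G] {p : ℕ} [hp : Fact p.Prime]

omit hp [Finite G] in
theorem relIndex_comap_comap {Q : Type u} [Group Q] (f : G →* Q) (hf : Function.Surjective f)
    (A B : Subgroup Q) : (A.comap f).relIndex (B.comap f) = A.relIndex B := by
  rw [relIndex_comap, map_comap_eq_self_of_surjective hf]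

/-- The upper series of a quotient by a subgroup of `O_{p',p}` is absorbed one round later. -/
theorem comap_upper_le {Q : Type u} [Group Q] [Finite Q] (f : G →* Q) (hf : Function.Surjective f)
    (hk : f.ker ≤ (Cfsg.upperPSeries p G 2).1) (j : ℕ) :
    (Cfsg.upperPSeries p Q (2 * j + 1)).1.comap f ≤
      (Cfsg.upperPSeries p G (2 * (j + 1) + 1)).1 := by
  induction j with
  | zero =>
    haveI : ((Cfsg.upperPSeries p Q 1).1.comap f).Normal := Normal.comap inferInstance f
    refine absorb_coprime (N := f.ker) ?_ (hk.trans (le_upper_add (by norm_num)))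
    rw [← MonoidHom.comap_bot, relIndex_comap_comap f hf]
    simpa [Cfsg.upperPSeries] using upper_step_even (p := p) (G := Q) (n := 0) Even.zero
  | succ j ih =>
    haveI : ((Cfsg.upperPSeries p Q (2 * j + 2)).1.comap f).Normal := Normal.comap inferInstance f
    haveI : ((Cfsg.upperPSeries p Q (2 * (j + 1) + 1)).1.comap f).Normal :=
      Normal.comap inferInstance f
    have h1 : (Cfsg.upperPSeries p Q (2 * j + 2)).1.comap f ≤
        (Cfsg.upperPSeries p G (2 * (j + 1) + 2)).1 := by
      refine absorb_pow ?_ ih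
      rw [relIndex_comap_comap f hf]
      exact upper_step_odd (by simp)
    refine absorb_coprime ?_ (h1.trans (le_upper_add (by omega)))
    rw [relIndex_comap_comap f hf]
    exact upper_step_even (n := 2 * j + 2) (by simp [parity_simps])

theorem plength_succ_of_quotient {Q : Type u} [Group Q] [Finite Q] (f : G →* Q)
    (hf : Function.Surjective f) (hk : f.ker ≤ (Cfsg.upperPSeries p G 2).1) {n : ℕ}
    (h : Cfsg.PLengthLE p n Q) : Cfsg.PLengthLE p (n + 1) G := by
  have h1 := comap_upper_le f hf hk n
  rw [show (Cfsg.upperPSeries p Q (2 * n + 1)).1 = ⊤ from h, comap_top] at h1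
  exact top_le_iff.1 h1

/-- `O_{p'}` is the first term. -/
theorem pPrimeCore_le_upper_one : Cfsg.pPrimeCore p G ≤ (Cfsg.upperPSeries p G 1).1 := by
  refine absorb_coprime (i := 0) (N := ⊥) ?_ bot_le
  rw [relIndex_bot_left]
  exact Thompson.card_pPrimeCore_coprime

/-- The preimage of `O_p(G / O_{p'}(G))` is contained in the second term. -/
theorem comap_pCore_le_upper_two :
    (Cfsg.pCore p (G ⧸ Cfsg.pPrimeCore p G)).comap (QuotientGroup.mk' (Cfsg.pPrimeCore p G)) ≤
      (Cfsg.upperPSeries p G 2).1 := by
  haveI : ((Cfsg.pCore p (G ⧸ Cfsg.pPrimeCore p G)).comap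
      (QuotientGroup.mk' (Cfsg.pPrimeCore p G))).Normal := Normal.comap inferInstance _
  refine absorb_pow (i := 0) (N := Cfsg.pPrimeCore p G) ?_ pPrimeCore_le_upper_one
  rw [relIndex_comap_mk]
  exact IsPGroup.iff_card.1 Thompson.isPGroup_pCore

end Cfsg.Agent.TwoLen59
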