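import Cfsg.Agent.TwoLen59.Twist
import Cfsg.Agent.TwoLen59.Series
import Cfsg.Agent.Fus93.Critical
import Cfsg.Agent.PF14.Compose

/-!
The 2-length is bounded by the exponent of a Sylow 2-subgroup.
-/

set_option autoImplicit false

namespace Cfsg.Agent.TwoLen59

open Subgroup Cfsg.Agent.FGS73

universe u

/-- A linear group without normal 2-subgroups whose 2-elements satisfy `(X - 1) ^ (2 ^ (n+1) - 1)`. -/
theorem key : ∀ (n : ℕ) {H : Type u} [Group H] [Finite H] [Group.IsSolvable H] {V : Type u}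
    [AddCommGroup V] [Module (ZMod 2) V] [FiniteDimensional (ZMod 2) V]
    (ρ : H →* Module.End (ZMod 2) V), Function.Injective ρ → Cfsg.pCore 2 H = ⊥ →
    (∀ y : H, (∃ l, y ^ 2 ^ l = 1) →
      y ^ 2 ^ (n + 1) = 1 ∧ (ρ y - 1) ^ (2 ^ (n + 1) - 1) = 0) →
    Cfsg.PLengthLE 2 n H := by
  haveI : Fact (Nat.Prime 2) := ⟨Nat.prime_two⟩
  intro n
  induction n with
  | zero =>
    intro H _ _ _ V _ _ _ ρ hρ _ h
    refine plength_of_upper fun g hg => ?_
    have h1 := (h g hg).2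
    rw [show 2 ^ (0 + 1) - 1 = 1 from rfl, pow_one, sub_eq_zero] at h1
    rw [show g = 1 from hρ (h1.trans (map_one ρ).symm)]
    exact one_mem _
  | succ n ih =>
    intro H _ _ _ V _ _ _ ρ hρ hO h
    let π := QuotientGroup.mk' (Cfsg.pPrimeCore 2 H)
    haveI : Group.IsSolvable (H ⧸ Cfsg.pPrimeCore 2 H) :=
      Group.isSolvable_of_surjective (QuotientGroup.mk'_surjective _)
    haveI : Group.IsSolvable ((H ⧸ Cfsg.pPrimeCore 2 H) ⧸
        Cfsg.pCore 2 (H ⧸ Cfsg.pPrimeCore 2 H)) :=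
      Group.isSolvable_of_surjective (QuotientGroup.mk'_surjective _)
    obtain ⟨C', hC'c, hC'cen, hC'sq, hC'com⟩ := Cfsg.Agent.Fus93.exists_critical (p := 2)
      (Cfsg.Agent.Thompson.isPGroup_pCore (p := 2) (G := H ⧸ Cfsg.pPrimeCore 2 H))
    haveI := hC'c
    set C := C'.map (Cfsg.pCore 2 (H ⧸ Cfsg.pPrimeCore 2 H)).subtype with hC
    haveI : C.Normal := Cfsg.Agent.Thompson.map_subtype_normal_of_characteristic _ _
    have hCW : C ≤ Cfsg.pCore 2 (H ⧸ Cfsg.pPrimeCore 2 H) := map_subtype_le _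
    have hcW := Cfsg.Agent.Thompson.centralizer_pCore_le (p := 2)
      (G := H ⧸ Cfsg.pPrimeCore 2 H) OddLocal44.isPSolvable_of_isSolvable
      Cfsg.Agent.Thompson.pPrimeCore_quotient_pPrimeCore
    have hcC : Cfsg.pCore 2 (H ⧸ Cfsg.pPrimeCore 2 H) ⊓
        centralizer (C : Set (H ⧸ Cfsg.pPrimeCore 2 H)) ≤ C := by
      intro g hg
      exact ⟨⟨g, (mem_inf.1 hg).1⟩, hC'cen (mem_centralizer_iff.2 fun c hc =>
        Subtype.ext (mem_centralizer_iff.1 (mem_inf.1 hg).2 _ ⟨c, hc, rfl⟩)), rfl⟩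
    have hsq : ∀ a ∈ C, ∀ c ∈ C, a ^ 2 * c = c * a ^ 2 := by
      rintro _ ⟨a, ha, rfl⟩ _ ⟨c, hc, rfl⟩
      exact (congrArg Subtype.val (mem_centralizer_iff.1 (hC'sq a ha) c hc)).symm
    have hcom : ∀ a ∈ C, ∀ g ∈ Cfsg.pCore 2 (H ⧸ Cfsg.pPrimeCore 2 H), ∀ c ∈ C,
        a⁻¹ * (g * a * g⁻¹) * c = c * (a⁻¹ * (g * a * g⁻¹)) := by
      rintro _ ⟨a, ha, rfl⟩ g hg _ ⟨c, hc, rfl⟩
      exact (congrArg Subtype.val (mem_centralizer_iff.1 (hC'com a ha ⟨g, hg⟩) c hc)).symm
    obtain ⟨V', _, _, _, ρ', hρ', hρn⟩ := exists_rep hCW hcW hcC (m := n + 1)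
      fun g hg X Y hXY x hx => norm_mem ρ hρ hO (by omega) (fun y hy => (h y hy).1)
        (fun y hy => (h y hy).2) hCW hsq hcom hXY hg hx
    refine plength_succ_of_quotient
      ((QuotientGroup.mk' (Cfsg.pCore 2 (H ⧸ Cfsg.pPrimeCore 2 H))).comp π)
      ((QuotientGroup.mk'_surjective _).comp (QuotientGroup.mk'_surjective _)) ?_
      (ih ρ' hρ' Cfsg.Agent.Thompson.pCore_quotient_pCore ?_)
    · rw [← MonoidHom.comap_ker, QuotientGroup.ker_mk']
      exact comap_pCore_le_upper_two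
    · intro a ha
      obtain ⟨g, hg, rfl⟩ := exists_pelt_lift
        (QuotientGroup.mk' (Cfsg.pCore 2 (H ⧸ Cfsg.pPrimeCore 2 H)))
        (QuotientGroup.mk'_surjective _) ha
      refine ⟨?_, hρn g hg⟩
      obtain ⟨y, hy, rfl⟩ := exists_pelt_lift π (QuotientGroup.mk'_surjective _) hg
      rw [← map_pow, QuotientGroup.mk'_apply, QuotientGroup.eq_one_iff]
      exact tau_mem_core ρ hρ hO (h y hy).1 (h y hy).2

/-- A 2-soluble group is soluble, by the odd order theorem. -/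
theorem isSolvable_of_isPSolvable_two {G : Type u} [Group G] [Finite G]
    (hG : Cfsg.IsPSolvable 2 G) : Group.IsSolvable G := by
  haveI : Fact (Nat.Prime 2) := ⟨Nat.prime_two⟩
  obtain ⟨n, S, h0, h1, hmono, hn, hstep⟩ := hG
  have main : ∀ i, Group.IsSolvable (S i) := by
    intro i
    induction i using Fin.induction with
    | zero => rw [h0]; infer_instance
    | succ i ih =>
      have hle : S i.castSucc ≤ S i.succ := hmono (Fin.castSucc_lt_succ (i := i)).le
      haveI := hn i.castSucc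
      set A := (S i.castSucc).subgroupOf (S i.succ) with hA
      haveI : Group.IsSolvable A :=
        Group.isSolvable_of_surjective (f := (subgroupOfEquivOfLe hle).symm.toMonoidHom)
          (subgroupOfEquivOfLe hle).symm.surjective
      rcases hstep i with ⟨m, hm⟩ | hc
      · haveI := (IsPGroup.of_card (G := S i.succ ⧸ A) (p := 2) (n := m) hm).isNilpotent
        exact Group.isSolvable_of_ker_le_range A.subtype (QuotientGroup.mk' A)
          (by rw [QuotientGroup.ker_mk', Subgroup.range_subtype])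
      · exact OddOrderGlue.isSolvable_of_odd_quotient PF14.feitThompson A
          (Nat.coprime_two_right.1 hc)
  haveI := main (Fin.last n)
  rw [h1] at this
  exact Group.isSolvable_of_surjective (f := (⊤ : Subgroup G).subtype)
    (fun g => ⟨⟨g, mem_top g⟩, rfl⟩)

/-- The 2-length is at most the exponent. -/
theorem plength_two_le_exponent {G : Type u} [Group G] [Finite G] (hG : Group.IsSolvable G) {e : ℕ}
    (hexp : ∀ g : G, (∃ l, g ^ 2 ^ l = 1) → g ^ 2 ^ e = 1) : Cfsg.PLengthLE 2 e G := by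
  haveI : Fact (Nat.Prime 2) := ⟨Nat.prime_two⟩
  haveI := hG
  rcases e with _ | n
  · refine plength_of_upper fun g hg => ?_
    have h1 := hexp g hg
    rw [pow_zero, pow_one] at h1
    rw [h1]
    exact one_mem _
  let π := QuotientGroup.mk' (Cfsg.pPrimeCore 2 G)
  haveI : Group.IsSolvable (G ⧸ Cfsg.pPrimeCore 2 G) :=
    Group.isSolvable_of_surjective (QuotientGroup.mk'_surjective _)
  haveI : Group.IsSolvable ((G ⧸ Cfsg.pPrimeCore 2 G) ⧸
      Cfsg.pCore 2 (G ⧸ Cfsg.pPrimeCore 2 G)) :=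
    Group.isSolvable_of_surjective (QuotientGroup.mk'_surjective _)
  have hexp' : ∀ a : G ⧸ Cfsg.pPrimeCore 2 G, (∃ l, a ^ 2 ^ l = 1) → a ^ 2 ^ (n + 1) = 1 := by
    intro a ha
    obtain ⟨g, hg, rfl⟩ := exists_pelt_lift π (QuotientGroup.mk'_surjective _) ha
    rw [← map_pow, hexp g hg, map_one]
  let ρ : (G ⧸ Cfsg.pPrimeCore 2 G) ⧸ Cfsg.pCore 2 (G ⧸ Cfsg.pPrimeCore 2 G) →*
      Module.End (ZMod 2) (FratMod 2 (G ⧸ Cfsg.pPrimeCore 2 G)) :=
    QuotientGroup.lift _ fratRep pCore_le_ker_fratRep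
  have hρ : Function.Injective ρ := by
    rw [← MonoidHom.ker_eq_bot_iff, eq_bot_iff]
    intro a ha
    obtain ⟨g, rfl⟩ := QuotientGroup.mk'_surjective _ a
    rw [mem_bot, QuotientGroup.mk'_apply, QuotientGroup.eq_one_iff, ← ker_fratRep
      OddLocal44.isPSolvable_of_isSolvable Cfsg.Agent.Thompson.pPrimeCore_quotient_pPrimeCore]
    exact ha
  haveI : Finite (FratMod 2 (G ⧸ Cfsg.pPrimeCore 2 G)) := inferInstanceAs (Finite (Additive _))
  haveI : Module.Finite (ZMod 2) (FratMod 2 (G ⧸ Cfsg.pPrimeCore 2 G)) := Module.Finite.of_finite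
  refine plength_succ_of_quotient
    ((QuotientGroup.mk' (Cfsg.pCore 2 (G ⧸ Cfsg.pPrimeCore 2 G))).comp π)
    ((QuotientGroup.mk'_surjective _).comp (QuotientGroup.mk'_surjective _)) ?_
    (key n ρ hρ Cfsg.Agent.Thompson.pCore_quotient_pCore ?_)
  · rw [← MonoidHom.comap_ker, QuotientGroup.ker_mk']
    exact comap_pCore_le_upper_two
  · intro a ha
    obtain ⟨g, hg, rfl⟩ := exists_pelt_lift _ (QuotientGroup.mk'_surjective _) ha
    exact ⟨by rw [← map_pow, hexp' g hg, map_one], sub_one_pow_fratRep hexp' hg⟩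

end Cfsg.Agent.TwoLen59
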