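import Mathlib

/-!
Two elements with small squares acting on a symplectic space, normalising a 2-group of class two.
-/

set_option autoImplicit false

namespace Cfsg.Agent.TwoLen59

universe u

/-- A nondegenerate alternating multiplicative pairing. -/
structure Symp (M K : Type*) [AddCommGroup M] [Field K] where
  β : M → M → K
  add_left : ∀ a b c, β (a + b) c = β a c * β b c
  add_right : ∀ a b c, β a (b + c) = β a b * β a c
  self : ∀ a, β a a = 1
  nondeg : ∀ a, (∀ b, β a b = 1) → a = 0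

variable {q : ℕ} {M : Type u} [AddCommGroup M] [Module (ZMod q) M] {K : Type*} [Field K]
  {Γ : Type*} [Group Γ]

/-- `f` preserves the pairing. -/
def Symp.Inv (B : Symp M K) (f : Γ →* Module.End (ZMod q) M) : Prop :=
  ∀ g a b, B.β (f g a) (f g b) = B.β a b

section form

variable (B : Symp M K)

omit [Module (ZMod q) M] in
theorem Symp.zero_left (c : M) : B.β 0 c = 1 := by
  have h1 : B.β c c * B.β 0 c = B.β c c := by rw [← B.add_left, add_zero]
  rwa [B.self, one_mul] at h1

omit [Module (ZMod q) M] in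
theorem Symp.zero_right (c : M) : B.β c 0 = 1 := by
  have h1 : B.β c c * B.β c 0 = B.β c c := by rw [← B.add_right, add_zero]
  rwa [B.self, one_mul] at h1

omit [Module (ZMod q) M] in
theorem Symp.nsmul_left (n : ℕ) (a c : M) : B.β (n • a) c = B.β a c ^ n := by
  induction n with
  | zero => rw [zero_smul, B.zero_left, pow_zero]
  | succ n ih => rw [succ_nsmul, B.add_left, ih, pow_succ]

omit [Module (ZMod q) M] in
theorem Symp.nsmul_right (n : ℕ) (a c : M) : B.β a (n • c) = B.β a c ^ n := by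
  induction n with
  | zero => rw [zero_smul, B.zero_right, pow_zero]
  | succ n ih => rw [succ_nsmul, B.add_right, ih, pow_succ]

variable [Fact q.Prime]

theorem Symp.smul_right (s : ZMod q) (a c : M) : B.β a (s • c) = B.β a c ^ s.val := by
  conv_lhs => rw [← ZMod.natCast_zmod_val s, Nat.cast_smul_eq_nsmul]
  exact B.nsmul_right _ _ _

theorem Symp.pow_q (a c : M) : B.β a c ^ q = 1 := by
  rw [← B.nsmul_right, ← Nat.cast_smul_eq_nsmul (ZMod q), ZMod.natCast_self, zero_smul,
    B.zero_right]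

theorem Symp.eq_one_of_sq (hq2 : q ≠ 2) {a c : M} (h : B.β a c ^ 2 = 1) : B.β a c = 1 := by
  have h2 := Nat.dvd_gcd (orderOf_dvd_of_pow_eq_one h) (orderOf_dvd_of_pow_eq_one (B.pow_q (q := q) a c))
  rw [((Nat.coprime_primes Nat.prime_two (Fact.out : q.Prime)).2 hq2.symm).gcd_eq_one,
    Nat.dvd_one, orderOf_eq_one_iff] at h2
  exact h2

/-- Opposite eigenvectors of an isometry are orthogonal. -/
theorem Symp.ortho (hq2 : q ≠ 2) (T : M → M) (hT : ∀ a b, B.β (T a) (T b) = B.β a b) {a b : M}
    (h : T a = -a ∧ T b = b ∨ T a = a ∧ T b = -b) : B.β a b = 1 := by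
  refine B.eq_one_of_sq (q := q) hq2 ?_
  have h1 := hT a b
  rcases h with ⟨ha, hb⟩ | ⟨ha, hb⟩ <;> rw [ha, hb] at h1
  · rw [pow_two]
    nth_rewrite 1 [← h1]
    rw [← B.add_left, neg_add_cancel, B.zero_left]
  · rw [pow_two]
    nth_rewrite 1 [← h1]
    rw [← B.add_right, neg_add_cancel, B.zero_right]

end form

/-- The fourth power is trivial, and the square is trivial or the element is a bireflection. -/
def Ok (f : Γ →* Module.End (ZMod q) M) (x : Γ) : Prop :=
  f (x ^ 4) = 1 ∧ (f (x ^ 2) = 1 ∨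
    (Module.finrank (ZMod q) (LinearMap.range (f x - 1)) ≤ 2 ∧
      LinearMap.ker (f (x ^ 2) - 1) ≤ LinearMap.ker (f x - 1)))

variable [Fact q.Prime] {f : Γ →* Module.End (ZMod q) M}

theorem inv_app (g : Γ) (m : M) : f g⁻¹ (f g m) = m := by
  rw [← Module.End.mul_apply, ← map_mul, inv_mul_cancel, map_one, Module.End.one_apply]

theorem app_cancel (g : Γ) {a b : M} (h : f g a = f g b) : a = b := by
  rw [← inv_app (f := f) g a, h, inv_app]

theorem two_ne_zero' (hq2 : q ≠ 2) : (2 : ZMod q) ≠ 0 := by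
  intro h
  have h2 : ((2 : ℕ) : ZMod q) = 0 := by exact_mod_cast h
  rw [ZMod.natCast_eq_zero_iff] at h2
  exact hq2 ((Nat.prime_dvd_prime_iff_eq (Fact.out : q.Prime) Nat.prime_two).1 h2)

theorem two_smul_inj (hq2 : q ≠ 2) {a : M} (h : a + a = 0) : a = 0 := by
  have h1 : (2 : ZMod q) • a = 0 := by rw [two_smul]; exact h
  exact (smul_eq_zero.1 h1).resolve_left (two_ne_zero' hq2)

/-- A linear map is determined on the two eigenspaces of an involution. -/
theorem ext_eig (hq2 : q ≠ 2) (A : Module.End (ZMod q) M) (hA : ∀ m, A (A m) = m)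
    {S S' : Module.End (ZMod q) M} (hp : ∀ m, A m = -m → S m = S' m)
    (hk : ∀ m, A m = m → S m = S' m) : S = S' := by
  refine LinearMap.ext fun m => ?_
  have h1 := hp (m - A m) (by rw [map_sub, hA]; abel)
  have h2 := hk (m + A m) (by rw [map_add, hA]; abel)
  rw [map_sub, map_sub] at h1
  rw [map_add, map_add] at h2
  have h3 : (S m - S' m) + (S m - S' m) = 0 := by
    calc _ = (S m - S (A m)) + (S m + S (A m)) - ((S' m - S' (A m)) + (S' m + S' (A m))) := by abel
      _ = 0 := by rw [h1, h2, sub_self]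
  exact sub_eq_zero.1 (two_smul_inj hq2 h3)

section bad

variable {t : Γ}

theorem sq_sq (h : Ok f t) (m : M) : f (t ^ 2) (f (t ^ 2) m) = m := by
  rw [← Module.End.mul_apply, ← map_mul, ← pow_add, h.1, Module.End.one_apply]

theorem fix_of_sq_fix (h : Ok f t) (hne : f (t ^ 2) ≠ 1) {m : M} (hm : f (t ^ 2) m = m) :
    f t m = m := by
  have h1 := (h.2.resolve_left hne).2 (show m ∈ LinearMap.ker (f (t ^ 2) - 1) by
    rw [LinearMap.mem_ker, LinearMap.sub_apply, hm, Module.End.one_apply, sub_self])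
  rw [LinearMap.mem_ker, LinearMap.sub_apply, Module.End.one_apply, sub_eq_zero] at h1
  exact h1

/-- the negated eigenspace of the square -/
abbrev negSp (f : Γ →* Module.End (ZMod q) M) (t : Γ) : Submodule (ZMod q) M :=
  LinearMap.ker (f (t ^ 2) + 1)

theorem mem_negSp {m : M} : m ∈ negSp f t ↔ f (t ^ 2) m = -m := by
  rw [LinearMap.mem_ker, LinearMap.add_apply, Module.End.one_apply, add_eq_zero_iff_eq_neg]

variable [Module.Finite (ZMod q) M]

theorem finrank_negSp_le (hq2 : q ≠ 2) (h : Ok f t) (hne : f (t ^ 2) ≠ 1) :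
    Module.finrank (ZMod q) (negSp f t) ≤ 2 := by
  refine (Submodule.finrank_mono (t := LinearMap.range (f t - 1)) ?_).trans
    (h.2.resolve_left hne).1
  intro m hm
  rw [mem_negSp] at hm
  set m' := (-(2 : ZMod q)⁻¹) • m with hm'
  refine ⟨f t m' + m', ?_⟩
  have e : f t (f t m') = f (t ^ 2) m' := by
    rw [pow_two, map_mul, Module.End.mul_apply]
  rw [LinearMap.sub_apply, Module.End.one_apply, map_add, e, hm', map_smul, map_smul, hm]
  calc _ = (-(2 : ZMod q)⁻¹) • (-m) - (-(2 : ZMod q)⁻¹) • m := by abel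
    _ = ((2 : ZMod q)⁻¹ * 2) • m := by
      rw [mul_two, add_smul, neg_smul, neg_smul, smul_neg]; abel
    _ = m := by rw [inv_mul_cancel₀ (two_ne_zero' hq2), one_smul]

variable {B : Symp M K}

theorem nondeg_negSp (hq2 : q ≠ 2) (hB : B.Inv f) (h : Ok f t) {v : M}
    (hv : f (t ^ 2) v = -v) (hP : ∀ x, f (t ^ 2) x = -x → B.β v x = 1) : v = 0 := by
  refine B.nondeg v fun b => B.eq_one_of_sq (q := q) hq2 ?_
  have h1 := hP (b - f (t ^ 2) b) (by rw [map_sub, sq_sq h]; abel)
  have h2 : B.β v (b + f (t ^ 2) b) = 1 := B.ortho (q := q) hq2 _ (hB (t ^ 2))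
    (Or.inl ⟨hv, by rw [map_add, sq_sq h]; abel⟩)
  rw [pow_two, ← B.add_right, show b + b = (b - f (t ^ 2) b) + (b + f (t ^ 2) b) by abel,
    B.add_right, h1, h2, mul_one]

/-- An involutive isometry of the plane is a scalar. -/
theorem plane (hq2 : q ≠ 2) (hB : B.Inv f) (h : Ok f t) (hne : f (t ^ 2) ≠ 1) {x : Γ}
    (hx : ∀ m, f (t ^ 2) (f x m) = f x (f (t ^ 2) m))
    (hx2 : ∀ m, f (t ^ 2) m = -m → f x (f x m) = m) :
    (∀ m, f (t ^ 2) m = -m → f x m = m) ∨ (∀ m, f (t ^ 2) m = -m → f x m = -m) := by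
  by_contra hcon
  push Not at hcon
  obtain ⟨⟨a, ha, ha'⟩, ⟨b, hb, hb'⟩⟩ := hcon
  set w := a - f x a with hw
  set v := b + f x b with hv
  have hwP : f (t ^ 2) w = -w := by rw [hw, map_sub, hx, ha, map_neg]; abel
  have hvP : f (t ^ 2) v = -v := by rw [hv, map_add, hx, hb, map_neg]; abel
  have hxw : f x w = -w := by rw [hw, map_sub, hx2 a ha]; abel
  have hxv : f x v = v := by rw [hv, map_add, hx2 b hb]; abel
  have hw0 : w ≠ 0 := fun h0 => ha' (sub_eq_zero.1 (hw ▸ h0)).symm
  have hv0 : v ≠ 0 := fun h0 => hb' (eq_neg_of_add_eq_zero_right (hv ▸ h0))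
  refine hv0 (nondeg_negSp hq2 hB h hvP fun y hy => ?_)
  have hli : LinearIndependent (ZMod q) ![v, w] := by
    rw [LinearIndependent.pair_iff]
    intro c d hcd
    have h1 := congrArg (f x) hcd
    rw [map_add, map_smul, map_smul, hxv, hxw, map_zero] at h1
    have h2 : c • v = 0 := two_smul_inj hq2 (by
      calc c • v + c • v = (c • v + d • w) + (c • v + d • -w) := by rw [smul_neg]; abel
        _ = 0 := by rw [hcd, h1, add_zero])
    have hc := (smul_eq_zero.1 h2).resolve_right hv0
    rw [h2, zero_add] at hcd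
    exact ⟨hc, (smul_eq_zero.1 hcd).resolve_right hw0⟩
  have hspan : Submodule.span (ZMod q) (Set.range ![v, w]) = negSp f t := by
    refine Submodule.eq_of_le_of_finrank_le ?_ ?_
    · rw [Submodule.span_le]
      rintro _ ⟨i, rfl⟩
      fin_cases i
      · exact mem_negSp.2 hvP
      · exact mem_negSp.2 hwP
    · rw [finrank_span_eq_card hli, Fintype.card_fin]
      exact finrank_negSp_le hq2 h hne
  obtain ⟨c, hc⟩ := (Submodule.mem_span_range_iff_exists_fun _).1
    (hspan ▸ mem_negSp.2 hy)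
  rw [Fin.sum_univ_two] at hc
  rw [← hc, B.add_right, B.smul_right (q := q), B.smul_right (q := q)]
  simp only [Matrix.cons_val_zero, Matrix.cons_val_one]
  rw [B.self, B.ortho (q := q) hq2 _ (hB x) (Or.inr ⟨hxv, hxw⟩), one_pow, one_pow, one_mul]

theorem two_le_finrank_negSp (hq2 : q ≠ 2) (hB : B.Inv f) (h : Ok f t) (hne : f (t ^ 2) ≠ 1) :
    2 ≤ Module.finrank (ZMod q) (negSp f t) := by
  by_contra hlt
  obtain ⟨m, hm⟩ : ∃ m, f (t ^ 2) m ≠ m := by
    by_contra hc
    push Not at hc
    exact hne (LinearMap.ext hc)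
  set v := m - f (t ^ 2) m with hv
  have hvP : f (t ^ 2) v = -v := by rw [hv, map_sub, sq_sq h]; abel
  have hv0 : v ≠ 0 := fun h0 => hm (sub_eq_zero.1 (hv ▸ h0)).symm
  refine hv0 (nondeg_negSp hq2 hB h hvP fun y hy => ?_)
  have hspan : (ZMod q) ∙ v = negSp f t := by
    refine Submodule.eq_of_le_of_finrank_le ?_ ?_
    · rw [Submodule.span_singleton_le_iff_mem]; exact mem_negSp.2 hvP
    · rw [finrank_span_singleton hv0]; omega
  obtain ⟨c, hc⟩ := Submodule.mem_span_singleton.1 (hspan ▸ mem_negSp.2 hy)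
  rw [← hc, B.smul_right (q := q), B.self, one_pow]

theorem four_le_finrank (hq2 : q ≠ 2) (hB : B.Inv f) (h : Ok f t) (hne : f (t ^ 2) ≠ 1) {g : Γ}
    (hg : ∀ m, f (t ^ 2) (f g m) = -(f g (f (t ^ 2) m))) :
    4 ≤ Module.finrank (ZMod q) M := by
  have h2 := two_le_finrank_negSp hq2 hB h hne
  set Kp : Submodule (ZMod q) M := LinearMap.ker (f (t ^ 2) - 1)
  have hK : ∀ p : negSp f t, f g p.1 ∈ Kp := fun p => by
    rw [LinearMap.mem_ker, LinearMap.sub_apply, hg, mem_negSp.1 p.2, map_neg, neg_neg,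
      Module.End.one_apply, sub_self]
  have h3 : Module.finrank (ZMod q) (negSp f t) ≤ Module.finrank (ZMod q) Kp :=
    LinearMap.finrank_le_finrank_of_injective
      (f := ((f g).comp (negSp f t).subtype).codRestrict Kp hK) (fun a b hab =>
        Subtype.ext (app_cancel g (congrArg Subtype.val hab)))
  have hinf : negSp f t ⊓ Kp = ⊥ := by
    rw [eq_bot_iff]
    rintro m ⟨h4, h5⟩
    rw [SetLike.mem_coe, mem_negSp] at h4
    rw [SetLike.mem_coe, LinearMap.mem_ker, LinearMap.sub_apply, Module.End.one_apply, h4,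
      sub_eq_zero] at h5
    refine (Submodule.mem_bot _).2 (two_smul_inj hq2 ?_)
    nth_rewrite 1 [← h5]
    exact neg_add_cancel m
  have h4 := Submodule.finrank_sup_add_finrank_inf_eq (negSp f t) Kp
  rw [hinf, finrank_bot, add_zero] at h4
  have h5 := Submodule.finrank_le (negSp f t ⊔ Kp)
  omega

theorem not_sq_neg (hq2 : q ≠ 2) (h4 : 4 ≤ Module.finrank (ZMod q) M) {z : Γ} (h : Ok f z)
    (hz : ∀ m, f (z ^ 2) m = -m) : False := by
  have hne : f (z ^ 2) ≠ 1 := by
    intro h1
    have : ∀ m : M, m = 0 := fun m => two_smul_inj hq2 (by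
      have h2 := hz m
      rw [h1, Module.End.one_apply] at h2
      nth_rewrite 1 [h2]
      exact neg_add_cancel m)
    haveI : Subsingleton M := ⟨fun a b => by rw [this a, this b]⟩
    rw [Module.finrank_zero_of_subsingleton] at h4
    omega
  have h1 := finrank_negSp_le hq2 h hne
  rw [show negSp f z = ⊤ from eq_top_iff.2 fun m _ => mem_negSp.2 (hz m), finrank_top] at h1
  omega

end bad

/-- The standing hypotheses on the 2-group `G` normalised by `t`. -/
structure Grp (G : Subgroup Γ) (t : Γ) : Prop where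
  conj : ∀ g ∈ G, t * g * t⁻¹ ∈ G
  conj' : ∀ g ∈ G, t⁻¹ * g * t ∈ G
  sq : ∀ a ∈ G, ∀ b ∈ G, a ^ 2 * b = b * a ^ 2
  two : ∀ g ∈ G, ∃ l, g ^ 2 ^ l = 1

/-- `z` is central in `G`. -/
def Cen (G : Subgroup Γ) (z : Γ) : Prop := z ∈ G ∧ ∀ g ∈ G, z * g = g * z

theorem Cen.pow {G : Subgroup Γ} {z : Γ} (h : Cen G z) (n : ℕ) : Cen G (z ^ n) :=
  ⟨pow_mem h.1 n, fun g hg => ((show Commute z g from h.2 g hg).pow_left n).eq⟩

theorem Cen.conj {G : Subgroup Γ} {t z : Γ} (hG : Grp G t) (h : Cen G z) :
    Cen G (t * z * t⁻¹) := by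
  refine ⟨hG.conj z h.1, fun g hg => ?_⟩
  have h1 := h.2 _ (hG.conj' g hg)
  calc t * z * t⁻¹ * g = t * (z * (t⁻¹ * g * t)) * t⁻¹ := by group
    _ = g * (t * z * t⁻¹) := by rw [h1]; group

theorem Cen.mul {G : Subgroup Γ} {a b : Γ} (ha : Cen G a) (hb : Cen G b) : Cen G (a * b) :=
  ⟨mul_mem ha.1 hb.1, fun g hg => by rw [mul_assoc, hb.2 g hg, ← mul_assoc, ha.2 g hg, mul_assoc]⟩

/-- All central involutions act as scalars. -/
def Scalar (f : Γ →* Module.End (ZMod q) M) (G : Subgroup Γ) : Prop :=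
  ∀ z, Cen G z → f (z ^ 2) = 1 → f z = 1 ∨ f z = -1

variable [Module.Finite (ZMod q) M] {B : Symp M K}

/-- A central involution of `G` commutes with a bad `t`. -/
theorem inv_comm (hq2 : q ≠ 2) (hB : B.Inv f) {G : Subgroup Γ} {t : Γ} (hG : Grp G t)
    (h : Ok f t) (hne : f (t ^ 2) ≠ 1) {z : Γ} (hz : Cen G z) (hz2 : f (z ^ 2) = 1) :
    ∀ m, f z (f t m) = f t (f z m) := by
  let A : ℕ → Module.End (ZMod q) M := fun k => f (t ^ k * z * (t ^ k)⁻¹)
  have hcen : ∀ k, Cen G (t ^ k * z * (t ^ k)⁻¹) := by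
    intro k
    induction k with
    | zero => simpa using hz
    | succ k ih =>
      have h1 := ih.conj hG
      rwa [show t * (t ^ k * z * (t ^ k)⁻¹) * t⁻¹ = t ^ (k + 1) * z * (t ^ (k + 1))⁻¹ by
        rw [pow_succ']; group] at h1
  have hsh : ∀ i j m, A (i + j) (f (t ^ i) m) = f (t ^ i) (A j m) := by
    intro i j m
    simp only [A]
    rw [← Module.End.mul_apply, ← Module.End.mul_apply, ← map_mul, ← map_mul]
    congr 2
    rw [pow_add]; group
  have hper : ∀ j, A (4 + j) = A j := by
    intro j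
    refine LinearMap.ext fun m => ?_
    have h1 := hsh 4 j m
    rwa [h.1, Module.End.one_apply, Module.End.one_apply] at h1
  have hinv : ∀ k m, A k (A k m) = m := by
    intro k m
    simp only [A]
    rw [← Module.End.mul_apply, ← map_mul,
      show t ^ k * z * (t ^ k)⁻¹ * (t ^ k * z * (t ^ k)⁻¹) = t ^ k * z ^ 2 * (t ^ k)⁻¹ by
        rw [pow_two]; group, map_mul, map_mul, hz2, mul_one, ← map_mul, mul_inv_cancel, map_one,
      Module.End.one_apply]
  have hcomm : ∀ i j m, A i (A j m) = A j (A i m) := by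
    intro i j m
    simp only [A]
    rw [← Module.End.mul_apply, ← Module.End.mul_apply, ← map_mul, ← map_mul,
      (hcen i).2 _ (hcen j).1]
  have hA0 : A 0 = f z := by simp [A]
  have hsplit : ∀ (C : Module.End (ZMod q) M) (w : M), (∀ m, C (C m) = m) → w ≠ 0 →
      ∃ e : ZMod q, e ≠ 0 ∧ e * e = 1 ∧ w + e • C w ≠ 0 ∧ C (w + e • C w) = e • (w + e • C w) := by
    intro C w hC hw
    have key : ∀ e : ZMod q, e * e = 1 → C (w + e • C w) = e • (w + e • C w) := fun e he => by
      rw [map_add, map_smul, hC, smul_add, smul_smul, he, one_smul, add_comm]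
    by_cases h1 : w + (1 : ZMod q) • C w = 0
    · refine ⟨-1, neg_ne_zero.2 one_ne_zero, by ring, ?_, key _ (by ring)⟩
      rw [one_smul] at h1
      intro h2
      rw [neg_one_smul] at h2
      refine hw (two_smul_inj hq2 ?_)
      calc w + w = (w + C w) + (w + -C w) := by abel
        _ = 0 := by rw [h1, h2, add_zero]
    · exact ⟨1, one_ne_zero, one_mul 1, h1, key _ (one_mul 1)⟩
  -- `t ^ 2` commutes with `z`
  have h20 : A 2 = A 0 := by
    by_contra hne2
    obtain ⟨m, hm⟩ : ∃ m, A 0 (A 2 m) ≠ m := by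
      by_contra hc
      push Not at hc
      refine hne2 (LinearMap.ext fun m => ?_)
      have h1 := congrArg (A 0) (hc m)
      rwa [hinv] at h1
    set w₀ := m - A 0 (A 2 m) with hw₀
    have hw : A 0 (A 2 w₀) = -w₀ := by
      rw [hw₀, map_sub, map_sub, hcomm 2 0, hinv, hinv]; abel
    have hw0 : w₀ ≠ 0 := fun h0 => hm (sub_eq_zero.1 h0).symm
    obtain ⟨e0, he0, he0', hn0, hv0⟩ := hsplit (A 0) w₀ (hinv 0) hw0
    set w₁ := w₀ + e0 • A 0 w₀ with hw₁
    obtain ⟨e1, he1, he1', hn1, hv1⟩ := hsplit (A 1) w₁ (hinv 1) hn0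
    set w₂ := w₁ + e1 • A 1 w₁ with hw₂
    obtain ⟨e3, he3, he3', hn, hv3⟩ := hsplit (A 3) w₂ (hinv 3) hn1
    set v := w₂ + e3 • A 3 w₂ with hvdef
    have hA02 : ∀ x, A 0 (A 2 x) = -x → ∀ (j : ℕ) (e : ZMod q),
        A 0 (A 2 (x + e • A j x)) = -(x + e • A j x) := fun x hx j e => by
      rw [map_add, map_add, map_smul, map_smul, hcomm 2 j, hcomm 0 j, hx, map_neg, smul_neg,
        neg_add]
    have hkeep : ∀ (x : M) (i j : ℕ) (c e : ZMod q), A i x = c • x →
        A i (x + e • A j x) = c • (x + e • A j x) := fun x i j c e hx => by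
      rw [map_add, map_smul, hcomm i j, hx, map_smul, smul_comm e c, smul_add]
    have hva : A 0 v = e0 • v := hkeep _ 0 3 e0 e3 (hkeep _ 0 1 e0 e1 hv0)
    have hvb : A 1 v = e1 • v := hkeep _ 1 3 e1 e3 hv1
    have hvd : A 3 v = e3 • v := hv3
    have hvc : A 2 v = (-e0) • v := by
      have h1 := congrArg (A 0) (hA02 _ (hA02 _ (hA02 _ hw 0 e0) 1 e1) 3 e3)
      rw [hinv, map_neg, ← hvdef, hva] at h1
      rw [h1, neg_smul]
    have hs : ∀ i j e, A j v = e • v → A (i + j) (f (t ^ i) v) = e • f (t ^ i) v :=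
      fun i j e he => by rw [hsh, he, map_smul]
    set a := f t v with ha
    set b := f (t ^ 2) v with hb
    set d := f (t ^ 3) v with hd
    let Pm : Module.End (ZMod q) M := (A 0 + e0 • 1) * (A 1 + e1 • 1) * (A 3 + e3 • 1)
    have hPm : ∀ (x : M) (c0 c1 c3 : ZMod q), A 0 x = c0 • x → A 1 x = c1 • x → A 3 x = c3 • x →
        Pm x = ((c0 + e0) * (c1 + e1) * (c3 + e3)) • x := by
      intro x c0 c1 c3 h0 h1 h3
      have k3 : (A 3 + e3 • 1 : Module.End (ZMod q) M) x = (c3 + e3) • x := by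
        rw [LinearMap.add_apply, h3, LinearMap.smul_apply, Module.End.one_apply, add_smul]
      have k1 : (A 1 + e1 • 1 : Module.End (ZMod q) M) x = (c1 + e1) • x := by
        rw [LinearMap.add_apply, h1, LinearMap.smul_apply, Module.End.one_apply, add_smul]
      have k0 : (A 0 + e0 • 1 : Module.End (ZMod q) M) x = (c0 + e0) • x := by
        rw [LinearMap.add_apply, h0, LinearMap.smul_apply, Module.End.one_apply, add_smul]
      simp only [Pm, Module.End.mul_apply]
      rw [k3, map_smul, k1, map_smul, map_smul, k0, smul_smul, smul_smul]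
      congr 1
      ring
    have hpv : Pm v = (8 * (e0 * e1 * e3)) • v := by
      rw [hPm v e0 e1 e3 hva hvb hvd]; congr 1; ring
    have hpa : Pm a = 0 := by
      have ha' : a = f (t ^ 1) v := by rw [ha, pow_one]
      rw [hPm a e3 e0 (-e0) (by rw [← hper 0, ha']; exact hs 1 3 e3 hvd)
        (by rw [ha']; exact hs 1 0 e0 hva) (by rw [ha']; exact hs 1 2 _ hvc)]
      have : (e3 + e0) * (e0 + e1) * (-e0 + e3) = 0 := by
        linear_combination (e0 + e1) * (he3' - he0')
      rw [this, zero_smul]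
    have hpb : Pm b = 0 := by
      rw [hPm b (-e0) e3 e1 (by rw [← hper 0]; exact hs 2 2 _ hvc)
        (by rw [← hper 1]; exact hs 2 3 e3 hvd) (hs 2 1 e1 hvb), neg_add_cancel, zero_mul, zero_mul,
        zero_smul]
    have hpd : Pm d = 0 := by
      rw [hPm d e1 (-e0) e0 (by rw [← hper 0]; exact hs 3 1 e1 hvb)
        (by rw [← hper 1]; exact hs 3 2 _ hvc) (hs 3 0 e0 hva)]
      have : (e1 + e0) * (-e0 + e1) * (e0 + e3) = 0 := by
        linear_combination (e0 + e3) * (he1' - he0')
      rw [this, zero_smul]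
    have h8 : (8 : ZMod q) * (e0 * e1 * e3) ≠ 0 := by
      have : (8 : ZMod q) = 2 * 2 * 2 := by norm_num
      rw [this]
      exact mul_ne_zero (mul_ne_zero (mul_ne_zero (two_ne_zero' hq2) (two_ne_zero' hq2))
        (two_ne_zero' hq2)) (mul_ne_zero (mul_ne_zero he0 he1) he3)
    have hfirst : ∀ c0 c1 c2 c3 : ZMod q,
        c0 • v + c1 • a + c2 • b + c3 • d = 0 → c0 = 0 := by
      intro c0 c1 c2 c3 hc
      have h1 := congrArg Pm hc
      simp only [map_add, map_smul, map_zero, hpv, hpa, hpb, hpd, smul_zero, add_zero,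
        smul_smul] at h1
      exact (mul_eq_zero.1 ((smul_eq_zero.1 h1).resolve_right hn)).resolve_right h8
    have hrot : ∀ c0 c1 c2 c3 : ZMod q,
        c0 • v + c1 • a + c2 • b + c3 • d = 0 → c3 • v + c0 • a + c1 • b + c2 • d = 0 := by
      intro c0 c1 c2 c3 hc
      have h1 := congrArg (f t) hc
      have e1 : f t a = b := by rw [ha, hb, pow_two, map_mul, Module.End.mul_apply]
      have e2 : f t b = d := by rw [hb, hd, pow_succ' t 2, map_mul, Module.End.mul_apply]
      have e3 : f t d = v := by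
        rw [hd, ← Module.End.mul_apply, ← map_mul, ← pow_succ', h.1, Module.End.one_apply]
      rw [map_add, map_add, map_add, map_zero, map_smul, map_smul, map_smul, map_smul, e1, e2, e3,
        ← ha] at h1
      rw [← h1]; abel
    have hli : LinearIndependent (ZMod q) ![a - v, b - a, d - b] := by
      rw [Fintype.linearIndependent_iff]
      intro c hc
      simp only [Fin.sum_univ_three, Matrix.cons_val_zero, Matrix.cons_val_one,
        Matrix.cons_val] at hc
      have hc' : (-c 0) • v + (c 0 - c 1) • a + (c 1 - c 2) • b + c 2 • d = 0 := by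
        rw [← hc]; module
      have z0 := hfirst _ _ _ _ hc'
      have hr1 := hrot _ _ _ _ hc'
      have z2 := hfirst _ _ _ _ hr1
      have z12 := hfirst _ _ _ _ (hrot _ _ _ _ hr1)
      rw [neg_eq_zero] at z0
      rw [z2, sub_zero] at z12
      intro i
      fin_cases i <;> assumption
    have hle : Submodule.span (ZMod q) (Set.range ![a - v, b - a, d - b]) ≤
        LinearMap.range (f t - 1) := by
      rw [Submodule.span_le]
      rintro _ ⟨i, rfl⟩
      fin_cases i
      · exact ⟨v, by simp [ha]⟩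
      · exact ⟨a, by simp [ha, hb, pow_two, map_mul, Module.End.mul_apply]⟩
      · exact ⟨b, by simp [hb, hd, pow_succ' t 2, map_mul, Module.End.mul_apply]⟩
    have h3 := Submodule.finrank_mono hle
    rw [finrank_span_eq_card hli, Fintype.card_fin] at h3
    have := (h.2.resolve_left hne).1
    omega
  -- `t` commutes with `z`
  have h10 : A 1 = A 0 := by
    by_contra hne1
    have h31 : A 3 = A 1 := by
      refine LinearMap.ext fun m => ?_
      have h1 := hsh 1 2 (f (t ^ 1)⁻¹ m)
      have h2 := hsh 1 0 (f (t ^ 1)⁻¹ m)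
      rw [h20, ← h2] at h1
      have h3 : f (t ^ 1) (f (t ^ 1)⁻¹ m) = m := by
        rw [← Module.End.mul_apply, ← map_mul, mul_inv_cancel, map_one, Module.End.one_apply]
      rw [h3] at h1
      exact h1
    obtain ⟨m, hm⟩ : ∃ m, A 0 (A 1 m) ≠ m := by
      by_contra hc
      push Not at hc
      refine hne1 (LinearMap.ext fun m => ?_)
      have h1 := congrArg (A 0) (hc m)
      rwa [hinv] at h1
    set w₀ := m - A 0 (A 1 m) with hw₀
    have hw : A 0 (A 1 w₀) = -w₀ := by
      rw [hw₀, map_sub, map_sub, hcomm 1 0, hinv, hinv]; abel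
    have hw0 : w₀ ≠ 0 := fun h0 => hm (sub_eq_zero.1 h0).symm
    obtain ⟨e0, he0, he0', hn0, hv0⟩ := hsplit (A 0) w₀ (hinv 0) hw0
    set w₁ := w₀ + e0 • A 0 w₀ with hw₁
    have hw₁' : A 1 w₁ = (-e0) • w₁ := by
      have h1 : A 0 (A 1 w₁) = -w₁ := by
        rw [hw₁, map_add, map_add, map_smul, map_smul, hcomm 1 0, hw, map_neg, smul_neg, neg_add]
      have h2 := congrArg (A 0) h1
      rw [hinv, map_neg, hv0] at h2
      rw [h2, neg_smul]
    have hτ : ∀ j, (j = 0 ∨ j = 1) → ∀ m, A j (f (t ^ 2) m) = f (t ^ 2) (A j m) := by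
      rintro j (rfl | rfl) m
      · nth_rewrite 1 [← h20]
        exact hsh 2 0 m
      · nth_rewrite 1 [← h31]
        exact hsh 2 1 m
    obtain ⟨δ, hδ0, hδ, hn, hvτ⟩ := hsplit (f (t ^ 2)) w₁ (sq_sq h) hn0
    set v := w₁ + δ • f (t ^ 2) w₁ with hvdef
    have hva : A 0 v = e0 • v := by
      rw [hvdef, map_add, map_smul, hτ 0 (Or.inl rfl), hv0, map_smul, smul_comm δ, ← smul_add]
    have hvb : A 1 v = (-e0) • v := by
      rw [hvdef, map_add, map_smul, hτ 1 (Or.inr rfl), hw₁', map_smul, smul_comm δ, ← smul_add]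
    have hab : e0 ≠ -e0 := fun h1 => two_ne_zero' hq2
      ((mul_eq_zero.1 (show 2 * e0 = 0 by linear_combination h1)).resolve_right he0)
    rcases mul_self_eq_one_iff.1 hδ with hd1 | hd1
    · rw [hd1, one_smul] at hvτ
      have hfix := fix_of_sq_fix h hne hvτ
      have h1 := hsh 1 0 v
      rw [pow_one, hfix, hva, map_smul, hfix, hvb] at h1
      exact hab (smul_left_injective (ZMod q) hn h1).symm
    · rw [hd1, neg_one_smul] at hvτ
      have hA0g : ∀ m, f (t ^ 2) (f z m) = f z (f (t ^ 2) m) := fun m => by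
        rw [← hA0]; exact (hτ 0 (Or.inl rfl) m).symm
      have hz' : ∀ m, f (t ^ 2) m = -m → f z (f z m) = m := fun m _ => by
        rw [← hA0]; exact hinv 0 m
      have hta : f (t ^ 2) (f t v) = -f t v := by
        rw [← map_neg, ← hvτ, ← Module.End.mul_apply, ← Module.End.mul_apply, ← map_mul, ← map_mul,
          ← pow_succ, ← pow_succ']
      have hz1 : f z (f t v) = (-e0) • f t v := by
        rw [← hA0, ← h20]
        have h1 := hsh 1 1 v
        rwa [pow_one, hvb, map_smul] at h1
      rw [hA0] at hva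
      have htv : f t v ≠ 0 := fun h0 => hn (app_cancel t (h0.trans (map_zero _).symm))
      rcases plane hq2 hB h hne hA0g hz' with hp | hp
      · refine hab ?_
        have k1 : e0 = 1 := smul_left_injective (ZMod q) hn
          (show e0 • v = (1 : ZMod q) • v by rw [← hva, hp v hvτ, one_smul])
        have k2 : -e0 = 1 := smul_left_injective (ZMod q) htv
          (show (-e0) • f t v = (1 : ZMod q) • f t v by rw [← hz1, hp _ hta, one_smul])
        rw [k2, k1]
      · refine hab ?_
        have k1 : e0 = -1 := smul_left_injective (ZMod q) hn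
          (show e0 • v = (-1 : ZMod q) • v by rw [← hva, hp v hvτ, neg_one_smul])
        have k2 : -e0 = -1 := smul_left_injective (ZMod q) htv
          (show (-e0) • f t v = (-1 : ZMod q) • f t v by rw [← hz1, hp _ hta, neg_one_smul])
        rw [k2, k1]
  intro m
  have h1 := hsh 1 0 m
  rwa [pow_one, h10, hA0] at h1

omit [Module.Finite (ZMod q) M] in
/-- `t ^ 2` commutes or anticommutes with each element of `G`. -/
theorem sign {G : Subgroup Γ} {t : Γ} (hG : Grp G t) (hS : Scalar f G) (h4 : f (t ^ 4) = 1)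
    (hτ : ∀ g ∈ G, Cen G (t ^ 2 * g * (t ^ 2)⁻¹ * g⁻¹)) {x : Γ} (hx : x ∈ G) :
    (∀ m, f (t ^ 2) (f x m) = f x (f (t ^ 2) m)) ∨
      (∀ m, f (t ^ 2) (f x m) = -(f x (f (t ^ 2) m))) := by
  classical
  set τ := t ^ 2 with hτd
  have hττ : f (τ * τ) = 1 := by rw [hτd, ← pow_add, h4]
  have hττ' : f (τ * τ)⁻¹ = 1 := by
    have h1 : f (τ * τ)⁻¹ * f (τ * τ) = 1 := by rw [← map_mul, inv_mul_cancel, map_one]
    rwa [hττ, mul_one] at h1
  set z' := τ * x * τ⁻¹ * x⁻¹ with hz'
  have hz : Cen G z' := hτ x hx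
  have hzc : ∀ N : ℕ, f (τ * z' ^ N * τ⁻¹) * f (z' ^ N) = 1 := by
    have hcz : Cen G (τ * z' * τ⁻¹) := by
      have h1 := (hz.conj hG).conj hG
      rwa [show t * (t * z' * t⁻¹) * t⁻¹ = τ * z' * τ⁻¹ by rw [hτd, pow_two]; group] at h1
    intro N
    rw [← conj_pow, ← map_mul, ← (show Commute (τ * z' * τ⁻¹) z' from hcz.2 _ hz.1).mul_pow,
      map_pow, show τ * z' * τ⁻¹ * z' = (τ * τ) * x * (τ * τ)⁻¹ * x⁻¹ by rw [hz']; group,
      map_mul, map_mul, map_mul, hττ, hττ', one_mul, mul_one, ← map_mul, mul_inv_cancel, map_one,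
      one_pow]
  have hsq : f (z' ^ 2) = 1 := by
    by_contra hne
    obtain ⟨l0, hl0⟩ := hG.two z' hz.1
    have hex : ∃ l, f (z' ^ 2 ^ l) = 1 := ⟨l0, by rw [hl0, map_one]⟩
    have hl := Nat.find_spec hex
    obtain ⟨i, hi⟩ : ∃ i, Nat.find hex = i + 2 := by
      refine ⟨Nat.find hex - 2, ?_⟩
      by_contra hc
      apply hne
      have : Nat.find hex = 0 ∨ Nat.find hex = 1 := by omega
      rcases this with h0 | h0 <;> rw [h0] at hl
      · rw [pow_zero, pow_one] at hl
        rw [map_pow, hl, one_pow]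
      · rwa [pow_one] at hl
    rw [hi] at hl
    set z4 := z' ^ 2 ^ i with hz4
    have hc4 : Cen G z4 := hz.pow _
    have h1 : f (z4 ^ 2) ≠ 1 := by
      rw [hz4, ← pow_mul, ← pow_succ]
      exact Nat.find_min hex (by omega)
    have h2 : f (z4 ^ 2) = -1 := by
      refine ((hS _ (hc4.pow 2) ?_).resolve_left h1)
      rw [hz4, ← pow_mul, ← pow_mul, ← pow_two, ← pow_add]
      exact hl
    have hc : Cen G (t * z4 * t⁻¹ * z4) := (hc4.conj hG).mul hc4
    have hinv : f z4 * f z4 = -1 := by rw [← map_mul, ← pow_two, h2]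
    have htt : f t * f t⁻¹ = 1 := by rw [← map_mul, mul_inv_cancel, map_one]
    have hconj2 : f (t * z4 * t⁻¹) * f (t * z4 * t⁻¹) = -1 := by
      rw [← map_mul, show t * z4 * t⁻¹ * (t * z4 * t⁻¹) = t * z4 ^ 2 * t⁻¹ by rw [pow_two]; group,
        map_mul, map_mul, h2, mul_neg, mul_one, neg_mul, htt]
    have hcc : f (t * z4 * t⁻¹) * f z4 = f z4 * f (t * z4 * t⁻¹) := by
      rw [← map_mul, ← map_mul, (hc4.conj hG).2 _ hc4.1]
    obtain ⟨e, he, hce⟩ : ∃ e : ZMod q, e * e = 1 ∧ f (t * z4 * t⁻¹) * f z4 = e • 1 := by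
      have h5 : f ((t * z4 * t⁻¹ * z4) ^ 2) = 1 := by
        rw [pow_two, map_mul f (t * z4 * t⁻¹ * z4), map_mul f (t * z4 * t⁻¹) z4]
        calc f (t * z4 * t⁻¹) * f z4 * (f (t * z4 * t⁻¹) * f z4)
            = f (t * z4 * t⁻¹) * (f z4 * f (t * z4 * t⁻¹)) * f z4 := by noncomm_ring
          _ = f (t * z4 * t⁻¹) * (f (t * z4 * t⁻¹) * f z4) * f z4 := by rw [hcc]
          _ = (f (t * z4 * t⁻¹) * f (t * z4 * t⁻¹)) * (f z4 * f z4) := by noncomm_ring
          _ = 1 := by rw [hinv, hconj2, neg_mul_neg, one_mul]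
      rcases hS _ hc h5 with h6 | h6
      · exact ⟨1, one_mul 1, by rw [← map_mul, h6, one_smul]⟩
      · exact ⟨-1, by ring, by rw [← map_mul, h6, neg_smul, one_smul]⟩
    have h7 : f (t * z4 * t⁻¹) = (-e) • f z4 := by
      calc f (t * z4 * t⁻¹) = -(f (t * z4 * t⁻¹) * (f z4 * f z4)) := by rw [hinv, mul_neg, mul_one, neg_neg]
        _ = -(e • f z4) := by
          rw [← mul_assoc (f (t * z4 * t⁻¹)) (f z4) (f z4), hce, smul_mul_assoc, one_mul]
        _ = (-e) • f z4 := (neg_smul _ _).symm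
    have h9 : f (τ * z4 * τ⁻¹) = f z4 := by
      rw [show τ * z4 * τ⁻¹ = t * (t * z4 * t⁻¹) * t⁻¹ by rw [hτd, pow_two]; group, map_mul,
        map_mul, h7, mul_smul_comm, smul_mul_assoc, ← map_mul, ← map_mul, h7, smul_smul,
        neg_mul_neg, he, one_smul]
    have h10 := hzc (2 ^ i)
    rw [← hz4, h9, ← map_mul, ← pow_two] at h10
    exact h1 h10
  have hmove : ∀ m, f τ (f x m) = f z' (f x (f τ m)) := fun m => by
    rw [← Module.End.mul_apply, ← map_mul, ← Module.End.mul_apply, ← Module.End.mul_apply,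
      ← map_mul, ← map_mul, hz']
    congr 2
    group
  rcases hS z' hz hsq with h1 | h1
  · exact Or.inl fun m => by rw [hmove, h1, Module.End.one_apply]
  · exact Or.inr fun m => by rw [hmove, h1, LinearMap.neg_apply, Module.End.one_apply]

/-- The case of a `g₀` anticommuting with `t ^ 2`. -/
theorem core (hq2 : q ≠ 2) (hB : B.Inv f) {G : Subgroup Γ} {t u : Γ} (hG : Grp G t)
    (hS : Scalar f G) (h : Ok f t) (h' : Ok f (t * u)) (hu : u ∈ G)
    (h3 : ∃ s, Cen G s ∧ f (s ^ 2) = 1 ∧ Ok f (t * u ^ 3 * s))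
    {g₀ : Γ} (hg₀ : g₀ ∈ G) (hanti : ∀ m, f (t ^ 2) (f g₀ m) = -(f g₀ (f (t ^ 2) m)))
    (hne : f (t ^ 2) ≠ 1)
    (hsu : (∀ m, f (t ^ 2) (f u m) = f u (f (t ^ 2) m)) ∨
      (∀ m, f (t ^ 2) (f u m) = -(f u (f (t ^ 2) m)))) :
    ∀ g ∈ G, f ((t * u) ^ 2 * (t ^ 2)⁻¹) * f g = f g * f ((t * u) ^ 2 * (t ^ 2)⁻¹) := by
  have hdim := four_le_finrank hq2 hB h hne hanti
  set τ := t ^ 2 with hτd
  set σ := (t * u) ^ 2 with hσd
  have hss : ∀ m, f σ (f σ m) = m := sq_sq h'
  have hτt : ∀ m, f τ (f t m) = f t (f τ m) := fun m => by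
    rw [← Module.End.mul_apply, ← Module.End.mul_apply, ← map_mul, ← map_mul, hτd, ← pow_succ,
      ← pow_succ']
  have hσap : ∀ m, f σ m = f t (f u (f t (f u m))) := fun m => by
    simp only [hσd, pow_two, map_mul, Module.End.mul_apply]
  have hsqap : ∀ m, f (u ^ 2) m = f u (f u m) := fun m => by
    rw [pow_two, map_mul, Module.End.mul_apply]
  have htK : ∀ m, f τ m = m → f t m = m := fun m hm => fix_of_sq_fix h hne hm
  have hu2 : Cen G (u ^ 2) := ⟨pow_mem hu 2, fun g hg => hG.sq u hu g hg⟩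
  have hK2P : ∀ (c : ZMod q), (∀ m, f τ m = m → f (u ^ 4) m = c • m) →
      ∀ m, f τ m = -m → f (u ^ 4) m = c • m := by
    intro c hc m hm
    apply app_cancel (f := f) g₀
    rw [map_smul, ← hc (f g₀ m) (by rw [hanti, hm, map_neg, neg_neg]), ← Module.End.mul_apply,
      ← Module.End.mul_apply, ← map_mul, ← map_mul, show u ^ 4 = (u ^ 2) ^ 2 by rw [← pow_mul],
      (hu2.pow 2).2 g₀ hg₀]
  have hP2K : ∀ (c : ZMod q), (∀ m, f τ m = -m → f (u ^ 4) m = c • m) →
      ∀ m, f τ m = m → f (u ^ 4) m = c • m := by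
    intro c hc m hm
    apply app_cancel (f := f) g₀
    rw [map_smul, ← hc (f g₀ m) (by rw [hanti, hm]), ← Module.End.mul_apply,
      ← Module.End.mul_apply, ← map_mul, ← map_mul, show u ^ 4 = (u ^ 2) ^ 2 by rw [← pow_mul],
      (hu2.pow 2).2 g₀ hg₀]
  have hinvτ : ∀ m, f τ⁻¹ m = f τ m := fun m => app_cancel (f := f) τ (by
    rw [sq_sq h, ← Module.End.mul_apply, ← map_mul, mul_inv_cancel, map_one, Module.End.one_apply])
  have hdone : ∀ (c : ZMod q), (∀ m, f σ m = c • f τ m) →
      ∀ g ∈ G, f (σ * τ⁻¹) * f g = f g * f (σ * τ⁻¹) := by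
    intro c hc g _
    refine LinearMap.ext fun m => ?_
    have hv : ∀ m, f (σ * τ⁻¹) m = c • m := fun m => by
      rw [map_mul, Module.End.mul_apply, hinvτ, hc, sq_sq h]
    rw [Module.End.mul_apply, Module.End.mul_apply, hv, hv, map_smul]
  rcases hsu with hc | hc
  · -- `u` commutes with `τ`
    have hσK : ∀ m, f τ m = m → f σ m = f (u ^ 2) m := fun m hm => by
      have k1 : f τ (f u m) = f u m := by rw [hc, hm]
      have k2 : f τ (f u (f u m)) = f u (f u m) := by rw [hc, k1]
      rw [hσap, htK _ k1, htK _ k2, hsqap]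
    have hσc : ∀ m, f τ (f σ m) = f σ (f τ m) := fun m => by
      rw [hσap, hσap, hτt, hc, hτt, hc]
    have hu4K : ∀ m, f τ m = m → f (u ^ 4) m = (1 : ZMod q) • m := fun m hm => by
      have k : f τ (f (u ^ 2) m) = f (u ^ 2) m := by rw [hsqap, hc, hc, hm]
      have h1 := hss m
      rw [hσK m hm, hσK _ k] at h1
      rw [one_smul, show u ^ 4 = u ^ 2 * u ^ 2 by rw [← pow_add], map_mul, Module.End.mul_apply, h1]
    have hu4 : f ((u ^ 2) ^ 2) = 1 := by
      rw [← pow_mul]
      refine ext_eig hq2 (f τ) (sq_sq h) (fun m hm => ?_) (fun m hm => ?_)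
      · rw [hK2P 1 hu4K m hm, one_smul, Module.End.one_apply]
      · rw [hu4K m hm, one_smul, Module.End.one_apply]
    rcases hS _ hu2 hu4 with hε | hε
    · have hus : ∀ m, f u (f u m) = m := fun m => by rw [← hsqap, hε, Module.End.one_apply]
      rcases plane hq2 hB h hne (fun m => hc m) (fun m _ => hus m) with hp | hp <;>
      · refine hdone 1 fun m => ?_
        rw [one_smul]
        refine LinearMap.congr_fun (ext_eig hq2 (f τ) (sq_sq h) (fun p hp' => ?_) fun w hw => ?_) m
        · have k1 : f τ (f t p) = -f t p := by rw [hτt, hp', map_neg]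
          rw [hp', hσap, hp p hp']
          first
            | rw [hp _ k1, ← Module.End.mul_apply, ← map_mul, ← pow_two, ← hτd, hp']
            | rw [map_neg, map_neg, hp _ k1, neg_neg, ← Module.End.mul_apply, ← map_mul,
                ← pow_two, ← hτd, hp']
        · rw [hσK w hw, hsqap, hus, hw]
    · have hσK' : ∀ m, f τ m = m → f σ m = -m := fun m hm => by
        rw [hσK m hm, hε, LinearMap.neg_apply, Module.End.one_apply]
      rcases plane hq2 hB h hne hσc (fun m _ => hss m) with hp | hp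
      · refine hdone (-1) fun m => ?_
        have := LinearMap.congr_fun (ext_eig hq2 (f τ) (sq_sq h) (S := f σ) (S' := -f τ)
          (fun p hp' => by rw [hp p hp', LinearMap.neg_apply, hp', neg_neg])
          (fun w hw => by rw [hσK' w hw, LinearMap.neg_apply, hw])) m
        rw [this, neg_one_smul, LinearMap.neg_apply]
      · exfalso
        refine not_sq_neg hq2 hdim h' fun m => ?_
        exact LinearMap.congr_fun (ext_eig hq2 (f τ) (sq_sq h) (S := f σ) (S' := -1)
          (fun p hp' => by rw [hp p hp']; rfl) (fun w hw => by rw [hσK' w hw]; rfl)) m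
  · -- `u` anticommutes with `τ`
    have hσc : ∀ m, f τ (f σ m) = f σ (f τ m) := fun m => by
      rw [hσap, hσap, hτt, hc, hτt, hc]; simp only [map_neg, neg_neg]
    have hσK : ∀ (e : ZMod q), (∀ m, f τ m = -m → f σ m = e • m) →
        ∀ m, f τ m = m → f σ m = e • m := by
      intro e he m hm
      apply app_cancel (f := f) (t * u)
      rw [map_smul, ← he (f (t * u) m) (by
          rw [map_mul, Module.End.mul_apply, hτt, hc, hm, map_neg]),
        ← Module.End.mul_apply, ← Module.End.mul_apply, ← map_mul, ← map_mul, hσd,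
        ← pow_succ, ← pow_succ']
    rcases plane hq2 hB h hne hσc (fun m _ => hss m) with hp | hp
    · exfalso
      have hσ1 : ∀ m, f τ m = -m → f t (f (u ^ 2) m) = m := fun m hm => by
        have k1 : f τ (f u m) = f u m := by rw [hc, hm, map_neg, neg_neg]
        have h1 := hp m hm
        rwa [hσap, htK _ k1, ← hsqap] at h1
      have k2 : ∀ m, f τ m = -m → f τ (f (u ^ 2) m) = -f (u ^ 2) m := fun m hm => by
        rw [hsqap, hc, hc, hm]
        simp only [map_neg, neg_neg]
      have htP : ∀ m, f τ m = -m → f t m = -f (u ^ 2) m := fun m hm => by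
        have h1 := congrArg (f t) (hσ1 m hm)
        rw [← Module.End.mul_apply, ← map_mul, ← pow_two, ← hτd, k2 m hm] at h1
        exact h1.symm
      have hu4P : ∀ m, f τ m = -m → f (u ^ 4) m = (-1 : ZMod q) • m := fun m hm => by
        have h1 := hσ1 m hm
        rw [htP _ (k2 m hm)] at h1
        rw [neg_one_smul, show u ^ 4 = u ^ 2 * u ^ 2 by rw [← pow_add], map_mul,
          Module.End.mul_apply, ← neg_eq_iff_eq_neg, h1]
      have hu4 : ∀ m, f (u ^ 4) m = -m := fun m => by
        have := LinearMap.congr_fun (ext_eig hq2 (f τ) (sq_sq h) (S := f (u ^ 4)) (S' := -1)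
          (fun p hp' => by rw [hu4P p hp', neg_one_smul]; rfl)
          (fun w hw => by rw [hP2K (-1) hu4P w hw, neg_one_smul]; rfl)) m
        exact this
      obtain ⟨s, hs, hs2, hok⟩ := h3
      set w := t * u ^ 3 with hw
      have hu3P : ∀ m, f τ m = -m → f τ (f (u ^ 3) m) = f (u ^ 3) m := fun m hm => by
        rw [pow_succ' u 2, map_mul, Module.End.mul_apply, hc, k2 m hm, map_neg, neg_neg]
      have hwP : ∀ m, f τ m = -m → f (w ^ 2) m = -m := fun m hm => by
        have k3 : f τ (f (u ^ 3) (f (u ^ 3) m)) = -f (u ^ 3) (f (u ^ 3) m) := by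
          rw [pow_succ' u 2, map_mul]
          simp only [Module.End.mul_apply]
          rw [hc, hsqap (f u _), hc, hc, hc, hsqap m, hc, hc, hm]
          simp only [map_neg, neg_neg]
        rw [pow_two, hw]
        simp only [map_mul, Module.End.mul_apply]
        rw [htK _ (hu3P m hm), htP _ k3, ← Module.End.mul_apply, ← Module.End.mul_apply,
          ← map_mul, ← map_mul,
          show u ^ 2 * u ^ 3 * u ^ 3 = u ^ 4 * u ^ 4 by rw [← pow_add, ← pow_add, ← pow_add],
          map_mul, Module.End.mul_apply, hu4, hu4, neg_neg]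
      have hw2 : ∀ m, f (w ^ 2) m = -m := fun m => by
        have := LinearMap.congr_fun (ext_eig hq2 (f τ) (sq_sq h) (S := f (w ^ 2)) (S' := -1)
          (fun p hp' => by rw [hwP p hp']; rfl)
          (fun x hx => by
            apply app_cancel (f := f) w
            rw [LinearMap.neg_apply, Module.End.one_apply, map_neg,
              ← hwP (f w x) (by
                rw [hw, map_mul, Module.End.mul_apply, hτt, ← map_neg]
                congr 1
                rw [pow_succ' u 2, map_mul, Module.End.mul_apply, hc, hsqap, hc, hc, hx]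
                simp only [map_neg, neg_neg]),
              ← Module.End.mul_apply, ← Module.End.mul_apply, ← map_mul, ← map_mul, ← pow_succ,
              ← pow_succ'])) m
        exact this
      refine not_sq_neg hq2 hdim hok fun m => ?_
      rw [pow_two]
      rcases hS s hs hs2 with hs1 | hs1
      · simp only [map_mul, hs1, mul_one]
        rw [← map_mul, ← pow_two]
        exact hw2 m
      · simp only [map_mul, hs1, mul_neg, mul_one, neg_mul, neg_neg]
        rw [← map_mul, ← pow_two]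
        exact hw2 m
    · exfalso
      refine not_sq_neg hq2 hdim h' fun m => ?_
      exact LinearMap.congr_fun (ext_eig hq2 (f τ) (sq_sq h) (S := f σ) (S' := -1)
        (fun p hp' => by rw [hp p hp']; rfl)
        (fun w hw => by
          rw [hσK (-1) (fun p hp' => by rw [hp p hp', neg_one_smul]) w hw, neg_one_smul]; rfl)) m

/-- The data for an element `t` and its twist `t * u`. -/
structure Pair (f : Γ →* Module.End (ZMod q) M) (G : Subgroup Γ) (t u : Γ) : Prop where
  grp : Grp G t
  mem : u ∈ G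
  ok : Ok f t
  ok' : Ok f (t * u)
  oks : ∀ k : ℕ, ∃ s, Cen G s ∧ f (s ^ 2) = 1 ∧ Ok f (t * u ^ k * s)
  cen : ∀ g ∈ G, Cen G (t ^ 2 * g * (t ^ 2)⁻¹ * g⁻¹)
  cen' : ∀ g ∈ G, Cen G ((t * u) ^ 2 * g * ((t * u) ^ 2)⁻¹ * g⁻¹)

omit [Module.Finite (ZMod q) M] in
theorem Pair.swap {G : Subgroup Γ} {t u : Γ} (h : Pair f G t u) : Pair f G (t * u) u⁻¹ := by
  have e : t * u * u⁻¹ = t := mul_inv_cancel_right t u
  refine ⟨⟨fun g hg => ?_, fun g hg => ?_, h.grp.sq, h.grp.two⟩, inv_mem h.mem, h.ok',
    by rw [e]; exact h.ok, fun k => ?_, h.cen', by rw [e]; exact h.cen⟩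
  · have := h.grp.conj _ (mul_mem (mul_mem h.mem hg) (inv_mem h.mem))
    rwa [show t * (u * g * u⁻¹) * t⁻¹ = t * u * g * (t * u)⁻¹ by group] at this
  · have := mul_mem (mul_mem (inv_mem h.mem) (h.grp.conj' g hg)) h.mem
    rwa [show u⁻¹ * (t⁻¹ * g * t) * u = (t * u)⁻¹ * g * (t * u) by group] at this
  · obtain ⟨l, hl⟩ := h.grp.two u h.mem
    have hinv : u ^ (2 ^ l - 1) = u⁻¹ := by
      refine eq_inv_of_mul_eq_one_left ?_
      rw [← pow_succ, Nat.sub_add_cancel Nat.one_le_two_pow, hl]
    obtain ⟨s, hs⟩ := h.oks (1 + (2 ^ l - 1) * k)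
    refine ⟨s, ?_⟩
    rwa [pow_add, pow_one, pow_mul, hinv, ← mul_assoc] at hs

theorem commute_twist_aux (hq2 : q ≠ 2) : ∀ (N : ℕ) {M : Type u} [AddCommGroup M]
    [Module (ZMod q) M] [Module.Finite (ZMod q) M], Module.finrank (ZMod q) M ≤ N →
    ∀ {Γ : Type u} [Group Γ] (f : Γ →* Module.End (ZMod q) M) (B : Symp M K), B.Inv f →
    ∀ {G : Subgroup Γ} {t u : Γ}, Pair f G t u → ∀ g ∈ G,
      f ((t * u) ^ 2 * (t ^ 2)⁻¹) * f g = f g * f ((t * u) ^ 2 * (t ^ 2)⁻¹) := by
  intro N
  induction N with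
  | zero =>
    intro M _ _ _ hN Γ _ f B _ G t u _ g _
    haveI : Subsingleton M := Module.finrank_zero_iff.1 (Nat.le_zero.1 hN)
    exact LinearMap.ext fun m => Subsingleton.elim _ _
  | succ N ih =>
    intro M _ _ _ hN Γ _ f B hB G t u hp g hg
    have hvG : (t * u) ^ 2 * (t ^ 2)⁻¹ ∈ G := by
      have := mul_mem (hp.grp.conj u hp.mem) (hp.grp.conj _ (hp.grp.conj u hp.mem))
      rwa [show t * u * t⁻¹ * (t * (t * u * t⁻¹) * t⁻¹) = (t * u) ^ 2 * (t ^ 2)⁻¹ by
        rw [pow_two, pow_two]; group] at this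
    by_cases hboth : f (t ^ 2) = 1 ∧ f ((t * u) ^ 2) = 1
    · have h1 : f (t ^ 2)⁻¹ = 1 := by
        have h2 : f (t ^ 2)⁻¹ * f (t ^ 2) = 1 := by rw [← map_mul, inv_mul_cancel, map_one]
        rwa [hboth.1, mul_one] at h2
      rw [map_mul, h1, hboth.2, one_mul, mul_one, one_mul]
    by_cases hS : Scalar f G
    · by_cases hτa : ∃ g₀ ∈ G, ∀ m, f (t ^ 2) (f g₀ m) = -(f g₀ (f (t ^ 2) m))
      · obtain ⟨g₀, hg₀, hanti⟩ := hτa
        by_cases hne : f (t ^ 2) = 1
        · have : ∀ m : M, m = 0 := fun m => two_smul_inj hq2 (by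
            have h2 := hanti (f g₀⁻¹ m)
            have h3 : f g₀ (f g₀⁻¹ m) = m := by
              rw [← Module.End.mul_apply, ← map_mul, mul_inv_cancel, map_one, Module.End.one_apply]
            rw [hne, Module.End.one_apply, Module.End.one_apply, h3] at h2
            nth_rewrite 1 [h2]
            exact neg_add_cancel m)
          exact LinearMap.ext fun m => by rw [this m, map_zero, map_zero]
        exact core hq2 hB hp.grp hS hp.ok hp.ok' hp.mem (hp.oks 3) hg₀ hanti hne
          (sign hp.grp hS hp.ok.1 hp.cen hp.mem) g hg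
      push Not at hτa
      have hτc : ∀ x ∈ G, ∀ m, f (t ^ 2) (f x m) = f x (f (t ^ 2) m) := fun x hx =>
        (sign hp.grp hS hp.ok.1 hp.cen hx).resolve_right fun h => by
          obtain ⟨m, hm⟩ := hτa x hx
          exact hm (h m)
      by_cases hσa : ∃ g₀ ∈ G, ∀ m, f ((t * u) ^ 2) (f g₀ m) = -(f g₀ (f ((t * u) ^ 2) m))
      · obtain ⟨g₀, hg₀, hanti⟩ := hσa
        by_cases hne : f ((t * u) ^ 2) = 1
        · have : ∀ m : M, m = 0 := fun m => two_smul_inj hq2 (by
            have h2 := hanti (f g₀⁻¹ m)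
            have h3 : f g₀ (f g₀⁻¹ m) = m := by
              rw [← Module.End.mul_apply, ← map_mul, mul_inv_cancel, map_one, Module.End.one_apply]
            rw [hne, Module.End.one_apply, Module.End.one_apply, h3] at h2
            nth_rewrite 1 [h2]
            exact neg_add_cancel m)
          exact LinearMap.ext fun m => by rw [this m, map_zero, map_zero]
        have hp' := hp.swap
        have h1 := core hq2 hB hp'.grp hS hp'.ok hp'.ok' hp'.mem (hp'.oks 3) hg₀ hanti hne
          (sign hp'.grp hS hp'.ok.1 hp'.cen hp'.mem) g hg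
        rw [mul_inv_cancel_right, show t ^ 2 * ((t * u) ^ 2)⁻¹ = ((t * u) ^ 2 * (t ^ 2)⁻¹)⁻¹ by
          group] at h1
        set v := (t * u) ^ 2 * (t ^ 2)⁻¹
        calc f v * f g = f v * f g * (f v⁻¹ * f v) := by
              rw [← map_mul f v⁻¹, inv_mul_cancel, map_one, mul_one]
          _ = f v * (f g * f v⁻¹) * f v := by simp only [mul_assoc]
          _ = f v * (f v⁻¹ * f g) * f v := by rw [h1]
          _ = (f v * f v⁻¹) * f g * f v := by simp only [mul_assoc]
          _ = f g * f v := by rw [← map_mul, mul_inv_cancel, map_one, one_mul]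
      push Not at hσa
      have hσc : ∀ x ∈ G, ∀ m, f ((t * u) ^ 2) (f x m) = f x (f ((t * u) ^ 2) m) := fun x hx =>
        (sign hp.swap.grp hS hp.ok'.1 hp.cen' hx).resolve_right fun h => by
          obtain ⟨m, hm⟩ := hσa x hx
          exact hm (h m)
      refine LinearMap.ext fun m => ?_
      have hinv : ∀ m, f (t ^ 2)⁻¹ (f g m) = f g (f (t ^ 2)⁻¹ m) := fun m => by
        apply app_cancel (f := f) (t ^ 2)
        have h3 : ∀ m, f (t ^ 2) (f (t ^ 2)⁻¹ m) = m := fun m => by
          rw [← Module.End.mul_apply, ← map_mul, mul_inv_cancel, map_one, Module.End.one_apply]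
        rw [h3, hτc g hg, h3]
      simp only [map_mul, Module.End.mul_apply]
      rw [hinv, hσc g hg]
    -- split by a central involution
    unfold Scalar at hS
    push Not at hS
    obtain ⟨z, hz, hz2, hz1, hzm⟩ := hS
    have hzu : ∀ x ∈ G, ∀ m, f z (f x m) = f x (f z m) := fun x hx m => by
      rw [← Module.End.mul_apply, ← Module.End.mul_apply, ← map_mul, ← map_mul, hz.2 x hx]
    have hzt : ∀ m, f z (f t m) = f t (f z m) := by
      by_cases hne : f (t ^ 2) = 1
      · have hne' : f ((t * u) ^ 2) ≠ 1 := fun h => hboth ⟨hne, h⟩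
        intro m
        have h1 := inv_comm hq2 hB hp.swap.grp hp.ok' hne' hz hz2 (f u⁻¹ m)
        have h3 : f u (f u⁻¹ m) = m := by
          rw [← Module.End.mul_apply, ← map_mul, mul_inv_cancel, map_one, Module.End.one_apply]
        simp only [map_mul, Module.End.mul_apply] at h1
        rw [← hzu u hp.mem, h3] at h1
        exact h1
      · exact inv_comm hq2 hB hp.grp hp.ok hne hz hz2
    let Γ' : Subgroup Γ :=
      { carrier := {x | ∀ m, f z (f x m) = f x (f z m)}
        one_mem' := fun m => by simp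
        mul_mem' := fun {a b} ha hb m => by
          simp only [map_mul, Module.End.mul_apply]; rw [ha, hb]
        inv_mem' := fun {a} ha m => by
          apply app_cancel (f := f) a
          have h3 : ∀ m, f a (f a⁻¹ m) = m := fun m => by
            rw [← Module.End.mul_apply, ← map_mul, mul_inv_cancel, map_one, Module.End.one_apply]
          rw [← ha, h3, h3] }
    have hGle : G ≤ Γ' := fun x hx => hzu x hx
    have htΓ : t ∈ Γ' := hzt
    let t' : Γ' := ⟨t, htΓ⟩
    let u' : Γ' := ⟨u, hGle hp.mem⟩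
    let G' : Subgroup Γ' := G.subgroupOf Γ'
    set v := (t * u) ^ 2 * (t ^ 2)⁻¹ with hv
    have hzz : ∀ m, f z (f z m) = m := fun m => by
      rw [← Module.End.mul_apply, ← map_mul, ← pow_two, hz2, Module.End.one_apply]
    have main : ∀ e : ZMod q, e = 1 ∨ e = -1 → ∀ m, f z m = e • m →
        f v (f g m) = f g (f v m) := by
      intro e he m hm
      set S : Submodule (ZMod q) M := LinearMap.ker (f z - e • 1) with hSdef
      have hSmem : ∀ x, x ∈ S ↔ f z x = e • x := fun x => by
        rw [hSdef, LinearMap.mem_ker, LinearMap.sub_apply, LinearMap.smul_apply,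
          Module.End.one_apply, sub_eq_zero]
      have hinvS : ∀ x : Γ', ∀ a ∈ S, f (x : Γ) a ∈ S := fun x a ha => by
        rw [hSmem] at ha ⊢
        rw [x.2, ha, map_smul]
      let f' : Γ' →* Module.End (ZMod q) S :=
        { toFun := fun x => (f (x : Γ)).restrict (hinvS x)
          map_one' := LinearMap.ext fun a => Subtype.ext (by simp)
          map_mul' := fun x y => LinearMap.ext fun a => Subtype.ext (by
            simp [map_mul, Module.End.mul_apply]) }
      have hne_top : S ≠ ⊤ := by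
        intro htop
        rcases he with rfl | rfl
        · exact hz1 (LinearMap.ext fun x => by
            have := (hSmem x).1 (htop ▸ Submodule.mem_top)
            rwa [one_smul] at this)
        · exact hzm (LinearMap.ext fun x => by
            have := (hSmem x).1 (htop ▸ Submodule.mem_top)
            rw [neg_one_smul] at this
            rw [this]; rfl)
      let B' : Symp S K :=
        { β := fun a b => B.β a b
          add_left := fun a b c => B.add_left _ _ _
          add_right := fun a b c => B.add_right _ _ _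
          self := fun a => B.self _
          nondeg := fun a ha => Subtype.ext (B.nondeg (a : M) fun b => B.eq_one_of_sq (q := q) hq2 (by
            have ha' := (hSmem _).1 a.2
            have h1 : B.β (a : M) (b + e • f z b) = 1 := ha ⟨b + e • f z b, (hSmem _).2 (by
              rw [map_add, map_smul, hzz, smul_add, smul_smul]
              rcases he with rfl | rfl <;> simp [add_comm])⟩
            have h2 : B.β (a : M) (b - e • f z b) = 1 := by
              refine B.ortho (q := q) hq2 _ (hB z) ?_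
              rcases he with rfl | rfl
              · right
                rw [one_smul] at ha'
                exact ⟨ha', by simp [map_sub, hzz]⟩
              · left
                rw [neg_one_smul] at ha'
                exact ⟨ha', by simp [map_add, hzz, add_comm]⟩
            rw [pow_two, ← B.add_right,
              show b + b = (b + e • f z b) + (b - e • f z b) by abel, B.add_right, h1, h2,
              mul_one])) }
      have hB' : B'.Inv f' := fun x a b => hB (x : Γ) a b
      have hf' : ∀ x : Γ', f (x : Γ) = 1 → f' x = 1 := fun x hx =>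
        LinearMap.ext fun a => Subtype.ext (by
          change f (x : Γ) a = (a : M)
          rw [hx]; rfl)
      have hok : ∀ x : Γ', Ok f (x : Γ) → Ok f' x := by
        intro x hx
        refine ⟨hf' _ (by rw [SubmonoidClass.coe_pow]; exact hx.1),
          hx.2.imp (fun h => hf' _ (by rw [SubmonoidClass.coe_pow]; exact h)) fun h => ⟨?_, ?_⟩⟩
        · refine le_trans ?_ h.1
          rw [← Submodule.finrank_map_subtype_eq S (LinearMap.range (f' x - 1))]
          refine Submodule.finrank_mono ?_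
          rintro _ ⟨_, ⟨a, rfl⟩, rfl⟩
          exact ⟨(a : M), rfl⟩
        · intro a ha
          rw [LinearMap.mem_ker] at ha
          have h3 : (a : M) ∈ LinearMap.ker (f ((x : Γ) ^ 2) - 1) :=
            LinearMap.mem_ker.2 (congrArg Subtype.val ha)
          exact LinearMap.mem_ker.2 (Subtype.ext (LinearMap.mem_ker.1 (h.2 h3)))
      have hcen : ∀ x : Γ', Cen G (x : Γ) → Cen G' x := fun x hx =>
        ⟨hx.1, fun y hy => Subtype.ext (hx.2 _ hy)⟩
      have hp' : Pair f' G' t' u' :=
        { grp := ⟨fun x hx => hp.grp.conj _ hx, fun x hx => hp.grp.conj' _ hx,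
            fun a ha b hb => Subtype.ext (hp.grp.sq _ ha _ hb),
            fun x hx => (hp.grp.two _ hx).imp fun l hl => Subtype.ext hl⟩
          mem := hp.mem
          ok := hok t' hp.ok
          ok' := hok (t' * u') hp.ok'
          oks := fun k => by
            obtain ⟨s, hs, hs2, hks⟩ := hp.oks k
            exact ⟨⟨s, hGle hs.1⟩, hcen _ hs, hf' _ hs2, hok (t' * u' ^ k * ⟨s, hGle hs.1⟩) hks⟩
          cen := fun x hx => hcen _ (hp.cen _ hx)
          cen' := fun x hx => hcen _ (hp.cen' _ hx) }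
      have hlt : Module.finrank (ZMod q) S ≤ N := by
        have := Submodule.finrank_lt hne_top
        omega
      have key := ih hlt f' B' hB' hp' ⟨g, hGle hg⟩ hg
      exact congrArg Subtype.val (LinearMap.congr_fun key ⟨m, (hSmem m).2 hm⟩)
    refine ext_eig hq2 (f z) hzz (fun m hm => ?_) fun m hm => ?_
    · exact main (-1) (Or.inr rfl) m (by rw [hm, neg_one_smul])
    · exact main 1 (Or.inl rfl) m (by rw [hm, one_smul])

end Cfsg.Agent.TwoLen59
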