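import Cfsg.Agent.FGS73.PLenTwo
import Cfsg.Agent.Lib.PGroup.Basic

/-!
Chief factors inside a critical subgroup of `O_2`.
-/

set_option autoImplicit false

namespace Cfsg.Agent.TwoLen59

open Subgroup

universe u

variable {G : Type u} [Group G]

/-- A chief factor `X / Y` below `C`. -/
structure IsChief (C X Y : Subgroup G) : Prop where
  nX : X.Normal
  nY : Y.Normal
  lt : Y < X
  le : X ≤ C
  min : ∀ Z : Subgroup G, Z.Normal → Y ≤ Z → Z ≤ X → Z = Y ∨ Z = X

variable [Finite G] {W C X Y : Subgroup G}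

theorem exists_chief_below (hX : X.Normal) (hle : X ≤ C) (hne : X ≠ ⊥) :
    ∃ Y, IsChief C X Y := by
  obtain ⟨Y, ⟨hYn, hY⟩, hmax⟩ := (Set.toFinite {Z : Subgroup G | Z.Normal ∧ Z < X}).exists_maximal
    ⟨⊥, inferInstance, bot_lt_iff_ne_bot.2 hne⟩
  refine ⟨Y, hX, hYn, hY, hle, fun Z hZ hYZ hZX => ?_⟩
  by_contra hc
  push Not at hc
  exact hc.1 (le_antisymm (hmax ⟨hZ, lt_of_le_of_ne hZX hc.2⟩ hYZ) hYZ)

/-- A normal 2-group acts trivially on the chief factors inside it. -/
theorem IsChief.comm [W.Normal] (h : IsChief C X Y) (hCW : C ≤ W) (hW : IsPGroup 2 W) {g x : G}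
    (hg : g ∈ W) (hx : x ∈ X) : g * x * g⁻¹ * x⁻¹ ∈ Y := by
  haveI : Fact (Nat.Prime 2) := ⟨Nat.prime_two⟩
  haveI := h.nX
  haveI := h.nY
  let π := QuotientGroup.mk' Y
  have hπ : Function.Surjective π := QuotientGroup.mk'_surjective Y
  set Wb := W.map π with hWb
  haveI : Wb.Normal := Normal.map inferInstance π hπ
  haveI : (X.map π).Normal := Normal.map inferInstance π hπ
  have hle : X.map π ≤ Wb := map_mono (h.le.trans hCW)
  have hne : (X.map π).subgroupOf Wb ≠ ⊥ := by
    rw [Ne, subgroupOf_eq_bot, disjoint_of_le_iff_left_eq_bot hle, Subgroup.map_eq_bot_iff,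
      QuotientGroup.ker_mk']
    exact fun hc => h.lt.not_ge hc
  obtain ⟨z, hz, hz1⟩ := (Subgroup.ne_bot_iff_exists_ne_one).1
    (Cfsg.Agent.PGroup.inf_center_ne_bot (hW.map π) hne) |>.elim fun z hz =>
      (⟨(z : Wb), z.2, fun e => hz (Subtype.ext e)⟩ : ∃ z : Wb,
        z ∈ (X.map π).subgroupOf Wb ⊓ center Wb ∧ z ≠ 1)
  set Z := X ⊓ (centralizer (Wb : Set (G ⧸ Y))).comap π with hZ
  have hZn : Z.Normal := inferInstance
  have hYZ : Y ≤ Z := fun a ha => mem_inf.2 ⟨h.lt.le ha, by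
    rw [mem_comap, show π a = 1 from (QuotientGroup.eq_one_iff a).2 ha]
    exact one_mem _⟩
  have hZX : Z = X := by
    refine (h.min Z hZn hYZ inf_le_left).resolve_left fun hZY => hz1 ?_
    obtain ⟨a, ha, haz⟩ := (mem_inf.1 hz).1
    have haZ : a ∈ Z := mem_inf.2 ⟨ha, mem_comap.2 (mem_centralizer_iff.2 fun w hw => by
      rw [haz]
      exact congrArg Subtype.val (mem_center_iff.1 (mem_inf.1 hz).2 ⟨w, hw⟩))⟩
    rw [hZY] at haZ
    exact Subtype.ext (by
      rw [show ((z : Wb) : G ⧸ Y) = π a from haz.symm]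
      exact (QuotientGroup.eq_one_iff a).2 haZ)
  have h1 := mem_centralizer_iff.1 (mem_comap.1 (mem_inf.1 (hZX.ge hx)).2) (π g) ⟨g, hg, rfl⟩
  rw [← QuotientGroup.eq_one_iff]
  change π (g * x * g⁻¹ * x⁻¹) = 1
  rw [map_mul, map_mul, map_mul, map_inv, map_inv, h1]
  group

theorem IsChief.sq [W.Normal] (h : IsChief C X Y) (hCW : C ≤ W) (hW : IsPGroup 2 W) {x : G}
    (hx : x ∈ X) : x ^ 2 ∈ Y := by
  haveI : Fact (Nat.Prime 2) := ⟨Nat.prime_two⟩
  haveI := h.nX
  haveI := h.nY
  let π := QuotientGroup.mk' Y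
  have hcomm : ∀ a ∈ X, ∀ b ∈ X, π a * π b = π b * π a := by
    intro a ha b hb
    have h1 : π (a * b * a⁻¹ * b⁻¹) = 1 :=
      (QuotientGroup.eq_one_iff _).2 (h.comm hCW hW (hCW (h.le ha)) hb)
    rw [map_mul, map_mul, map_mul, map_inv, map_inv, mul_inv_eq_one, mul_inv_eq_iff_eq_mul] at h1
    exact h1
  let S : Subgroup G :=
    { carrier := {a | a ∈ X ∧ a ^ 2 ∈ Y}
      one_mem' := ⟨one_mem _, by rw [one_pow]; exact one_mem _⟩
      mul_mem' := fun {a b} ha hb => ⟨mul_mem ha.1 hb.1, by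
        rw [← QuotientGroup.eq_one_iff (N := Y)]
        change π ((a * b) ^ 2) = 1
        rw [map_pow, map_mul, (show Commute (π a) (π b) from hcomm a ha.1 b hb.1).mul_pow,
          ← map_pow, ← map_pow, show π (a ^ 2) = 1 from (QuotientGroup.eq_one_iff _).2 ha.2,
          show π (b ^ 2) = 1 from (QuotientGroup.eq_one_iff _).2 hb.2, one_mul]⟩
      inv_mem' := fun {a} ha => ⟨inv_mem ha.1, by rw [inv_pow]; exact inv_mem ha.2⟩ }
  have hSn : S.Normal := ⟨fun a ha g => ⟨h.nX.conj_mem a ha.1 g, by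
    rw [conj_pow]; exact h.nY.conj_mem _ ha.2 g⟩⟩
  refine (((h.min S hSn (fun a ha => ⟨h.lt.le ha, pow_mem ha 2⟩) fun a ha => ha.1).resolve_left
    fun hS => ?_).ge hx).2
  -- an element of order two modulo `Y`
  obtain ⟨a, haX, haY⟩ := SetLike.exists_of_lt h.lt
  obtain ⟨k, hk⟩ := hW ⟨a, hCW (h.le haX)⟩
  have hk' : a ^ 2 ^ k = 1 := congrArg Subtype.val hk
  classical
  have hex : ∃ i, a ^ 2 ^ i ∈ Y := ⟨k, hk' ▸ one_mem _⟩
  rcases Nat.eq_zero_or_eq_succ_pred (Nat.find hex) with h0 | h0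
  · have := Nat.find_spec hex
    rw [h0, pow_zero, pow_one] at this
    exact haY this
  · have h2 := Nat.find_spec hex
    have h3 := Nat.find_min hex (show (Nat.find hex).pred < Nat.find hex by omega)
    rw [h0, Nat.succ_eq_add_one, pow_succ, pow_mul] at h2
    exact h3 (hS.le (show a ^ 2 ^ (Nat.find hex).pred ∈ S from ⟨pow_mem haX _, h2⟩))

omit [Finite G] in
/-- An element fixing `c` and moving `x` by `c` has powers moving `x` by the powers of `c`. -/
theorem conj_pow_of_fix {d c x : G} (hc : d * c * d⁻¹ = c) (hx : d * x * d⁻¹ = x * c) (k : ℕ) :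
    d ^ k * x * (d ^ k)⁻¹ = x * c ^ k := by
  induction k with
  | zero => simp
  | succ k ih =>
    have hck : d * c ^ k * d⁻¹ = c ^ k := by rw [← conj_pow, hc]
    calc d ^ (k + 1) * x * (d ^ (k + 1))⁻¹ = d * (d ^ k * x * (d ^ k)⁻¹) * d⁻¹ := by
          rw [pow_succ']; group
      _ = (d * x * d⁻¹) * (d * c ^ k * d⁻¹) := by rw [ih]; group
      _ = x * c ^ (k + 1) := by rw [hx, hck, pow_succ' c, mul_assoc]

omit [Finite G] in
theorem fix_of_odd {d c x : G} (hd : Odd (orderOf d)) (hc2 : ∃ l, c ^ 2 ^ l = 1)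
    (hc : d * c * d⁻¹ = c) (hx : d * x * d⁻¹ = x * c) : c = 1 := by
  have h := conj_pow_of_fix hc hx (orderOf d)
  rw [pow_orderOf_eq_one, one_mul, inv_one, mul_one, left_eq_mul] at h
  obtain ⟨l, hl⟩ := hc2
  have h2 := Nat.dvd_gcd (orderOf_dvd_of_pow_eq_one h) (orderOf_dvd_of_pow_eq_one hl)
  rw [(Nat.Coprime.pow_right l (Nat.coprime_two_right.2 hd)).gcd_eq_one, Nat.dvd_one,
    orderOf_eq_one_iff] at h2
  exact h2

/-- An element of odd order trivial on the chief factors of a critical subgroup is trivial. -/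
theorem eq_one_of_trivial_factors [W.Normal] [C.Normal] (hCW : C ≤ W) (hW : IsPGroup 2 W)
    (hcW : centralizer (W : Set G) ≤ W) (hcC : W ⊓ centralizer (C : Set G) ≤ C) {d : G}
    (hd : Odd (orderOf d))
    (h : ∀ X Y : Subgroup G, IsChief C X Y → ∀ x ∈ X, d * x * d⁻¹ * x⁻¹ ∈ Y) : d = 1 := by
  have h2 : ∀ g ∈ W, ∃ l, g ^ 2 ^ l = 1 := fun g hg =>
    (hW ⟨g, hg⟩).imp fun l hl => congrArg Subtype.val hl
  have main : ∀ X : Subgroup G, X.Normal → X ≤ C → ∀ x ∈ X, d * x * d⁻¹ = x := by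
    intro X
    induction X using WellFoundedLT.induction with
    | _ X ih =>
      intro hX hXC x hx
      by_cases hne : X = ⊥
      · rw [hne, mem_bot] at hx
        simp [hx]
      obtain ⟨Y, hY⟩ := exists_chief_below hX hXC hne
      set c := x⁻¹ * (d * x * d⁻¹) with hc
      have hcY : c ∈ Y := by
        have := hY.nY.conj_mem _ (h X Y hY x hx) x⁻¹
        rwa [show x⁻¹ * (d * x * d⁻¹ * x⁻¹) * x⁻¹⁻¹ = c by rw [hc]; group] at this
      have h1 : c = 1 := fix_of_odd hd (h2 c (hCW (hXC (hY.lt.le hcY))))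
        (ih Y hY.lt hY.nY (hY.lt.le.trans hXC) c hcY) (show d * x * d⁻¹ = x * c by rw [hc]; group)
      rw [hc, inv_mul_eq_one] at h1
      exact h1.symm
  have hdW : d ∈ W := by
    refine hcW (mem_centralizer_iff.2 fun g hg => ?_)
    set e := g⁻¹ * (d * g * d⁻¹) with he
    have heW : e ∈ W := mul_mem (inv_mem hg) (‹W.Normal›.conj_mem g hg d)
    have heC : e ∈ C := hcC (mem_inf.2 ⟨heW, mem_centralizer_iff.2 fun c hc => by
      have k1 : d * c * d⁻¹ = c := main C inferInstance le_rfl c hc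
      have k2 := main C inferInstance le_rfl _ (‹C.Normal›.conj_mem c hc g)
      have k3 : (d * g * d⁻¹) * c * (d * g * d⁻¹)⁻¹ = g * c * g⁻¹ := by
        calc _ = d * g * (d⁻¹ * (d * c * d⁻¹) * d) * g⁻¹ * d⁻¹ := by nth_rewrite 1 [← k1]; group
          _ = d * (g * c * g⁻¹) * d⁻¹ := by group
          _ = _ := k2
      rw [he]
      calc c * (g⁻¹ * (d * g * d⁻¹)) = g⁻¹ * (g * c * g⁻¹) * (d * g * d⁻¹) := by group
        _ = g⁻¹ * (d * g * d⁻¹) * c := by rw [← k3]; group⟩)
    have h1 : e = 1 := fix_of_odd hd (h2 e heW) (main C inferInstance le_rfl e heC)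
      (show d * g * d⁻¹ = g * e by rw [he]; group)
    rw [he, inv_mul_eq_one] at h1
    exact eq_mul_inv_iff_mul_eq.1 h1
  exact Cfsg.Agent.FGS73.eq_one_of_odd_of_two_pow hd (h2 d hdW)

/-- The faithful representation of `G / O_2(G)` on the chief factors below `C`. -/
theorem exists_rep [C.Normal] (hCW : C ≤ Cfsg.pCore 2 G)
    (hcW : centralizer (Cfsg.pCore 2 G : Set G) ≤ Cfsg.pCore 2 G)
    (hcC : Cfsg.pCore 2 G ⊓ centralizer (C : Set G) ≤ C) {m : ℕ}
    (hN : ∀ h : G, (∃ l, h ^ 2 ^ l = 1) → ∀ X Y, IsChief C X Y → ∀ x ∈ X,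
      (x * h) ^ 2 ^ m * (h ^ 2 ^ m)⁻¹ ∈ Y) :
    ∃ (V : Type u) (_ : AddCommGroup V) (_ : Module (ZMod 2) V) (_ : Module.Finite (ZMod 2) V)
      (ρ : G ⧸ Cfsg.pCore 2 G →* Module.End (ZMod 2) V), Function.Injective ρ ∧
      ∀ h : G, (∃ l, h ^ 2 ^ l = 1) →
        (ρ (QuotientGroup.mk' _ h) - 1) ^ (2 ^ m - 1) = 0 := by
  classical
  haveI : Fact (Nat.Prime 2) := ⟨Nat.prime_two⟩
  set W := Cfsg.pCore 2 G
  have hW : IsPGroup 2 W := Cfsg.Agent.Thompson.isPGroup_pCore
  let ι := {p : Subgroup G × Subgroup G // IsChief C p.1 p.2}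
  haveI : Finite ι := Subtype.finite
  haveI : ∀ i : ι, i.1.1.Normal := fun i => i.2.nX
  haveI : ∀ i : ι, i.1.2.Normal := fun i => i.2.nY
  letI icg : ∀ i : ι, CommGroup (i.1.1 ⧸ i.1.2.subgroupOf i.1.1) := fun i =>
    { (inferInstance : Group (i.1.1 ⧸ i.1.2.subgroupOf i.1.1)) with
      mul_comm := fun a b => by
        induction a using QuotientGroup.induction_on with
        | H a =>
          induction b using QuotientGroup.induction_on with
          | H b =>
            rw [← QuotientGroup.mk_mul, ← QuotientGroup.mk_mul, QuotientGroup.eq, mem_subgroupOf]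
            have h1 := i.2.nY.conj_mem _
              (i.2.comm hCW hW (hCW (i.2.le b.2)) a.2) ((b : G) * a)⁻¹
            convert h1 using 1
            push_cast
            group }
  letI : ∀ i : ι, Module (ZMod 2) (Additive (i.1.1 ⧸ i.1.2.subgroupOf i.1.1)) := fun i =>
    AddCommGroup.zmodModule fun w => by
      obtain ⟨a, ha⟩ := QuotientGroup.mk_surjective w.toMul
      change Additive.ofMul (w.toMul ^ 2) = 0
      rw [← ha, ← QuotientGroup.mk_pow, (QuotientGroup.eq_one_iff _).2 (by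
        rw [mem_subgroupOf, SubmonoidClass.coe_pow]; exact i.2.sq hCW hW a.2)]
      rfl
  let V := ∀ i : ι, Additive (i.1.1 ⧸ i.1.2.subgroupOf i.1.1)
  haveI : ∀ i : ι, Module.Finite (ZMod 2) (Additive (i.1.1 ⧸ i.1.2.subgroupOf i.1.1)) := fun i =>
    Module.Finite.of_finite
  let cls : ∀ i : ι, i.1.1 → Additive (i.1.1 ⧸ i.1.2.subgroupOf i.1.1) := fun i a =>
    Additive.ofMul (QuotientGroup.mk a)
  have hsurj : ∀ i, Function.Surjective (cls i) := fun i w => by
    obtain ⟨a, ha⟩ := QuotientGroup.mk_surjective w.toMul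
    exact ⟨a, congrArg Additive.ofMul ha⟩
  have hcls0 : ∀ i (a : i.1.1), cls i a = 0 ↔ (a : G) ∈ i.1.2 := fun i a =>
    (QuotientGroup.eq_one_iff a).trans mem_subgroupOf
  let act : ∀ i : ι, G →* Module.End (ZMod 2) (Additive (i.1.1 ⧸ i.1.2.subgroupOf i.1.1)) :=
    fun i =>
    { toFun := fun g => AddMonoidHom.toZModLinearMap 2 (MonoidHom.toAdditive
        (QuotientGroup.map _ _ (MulAut.conjNormal g : MulAut i.1.1).toMonoidHom (fun a ha => by
          rw [mem_subgroupOf] at ha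
          rw [mem_comap, mem_subgroupOf]
          change ((MulAut.conjNormal g a : i.1.1) : G) ∈ _
          rw [MulAut.conjNormal_apply]
          exact i.2.nY.conj_mem _ ha g)))
      map_one' := LinearMap.ext fun w => by
        obtain ⟨a, rfl⟩ := hsurj i w
        change cls i (MulAut.conjNormal (1 : G) a) = cls i a
        rw [map_one]; rfl
      map_mul' := fun g g' => LinearMap.ext fun w => by
        obtain ⟨a, rfl⟩ := hsurj i w
        change cls i (MulAut.conjNormal (g * g') a) =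
          cls i (MulAut.conjNormal g (MulAut.conjNormal g' a))
        rw [map_mul]; rfl }
  have hact : ∀ i g a, act i g (cls i a) = cls i (MulAut.conjNormal g a) := fun i g a => rfl
  let ρ0 : G →* Module.End (ZMod 2) V :=
    { toFun := fun g => LinearMap.pi fun i => (act i g).comp (LinearMap.proj i)
      map_one' := LinearMap.ext fun v => funext fun i => by
        change act i 1 (v i) = v i
        rw [map_one]; rfl
      map_mul' := fun g g' => LinearMap.ext fun v => funext fun i => by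
        change act i (g * g') (v i) = act i g (act i g' (v i))
        rw [map_mul]; rfl }
  have happ : ∀ g (v : V) i, ρ0 g v i = act i g (v i) := fun g v i => rfl
  have hker : ρ0.ker = W := by
    refine le_antisymm (Cfsg.Agent.Thompson.le_pCore inferInstance ?_) fun g hg => ?_
    · rintro ⟨g, hg⟩
      obtain ⟨a, c, hc, hac⟩ :=
        Nat.exists_eq_pow_mul_and_not_dvd (orderOf_pos g).ne' 2 (by norm_num)
      refine ⟨a, Subtype.ext ?_⟩
      refine eq_one_of_trivial_factors hCW hW hcW hcC ?_ fun X Y hXY x hx => ?_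
      · rw [SubmonoidClass.coe_pow, orderOf_pow, hac, Nat.gcd_eq_right (dvd_mul_right _ _),
          Nat.mul_div_cancel_left _ (pow_pos two_pos _)]
        exact Nat.odd_iff.2 (Nat.two_dvd_ne_zero.1 hc)
      · let i : ι := ⟨(X, Y), hXY⟩
        haveI := hXY.nX
        haveI := hXY.nY
        have hgk : g ^ 2 ^ a ∈ ρ0.ker := pow_mem hg _
        have h1 := congrFun (LinearMap.congr_fun (MonoidHom.mem_ker.1 hgk)
          (Pi.single i (cls i ⟨x, hx⟩))) i
        rw [happ, Pi.single_eq_same, Module.End.one_apply, Pi.single_eq_same, hact] at h1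
        have h2 : cls i (MulAut.conjNormal (g ^ 2 ^ a) ⟨x, hx⟩ * (⟨x, hx⟩ : i.1.1)⁻¹) = 0 := by
          change cls i _ + -cls i _ = 0
          rw [h1, add_neg_cancel]
        rw [hcls0] at h2
        rwa [Subgroup.coe_mul, Subgroup.coe_inv, MulAut.conjNormal_apply] at h2
    · refine MonoidHom.mem_ker.2 (LinearMap.ext fun v => funext fun i => ?_)
      rw [happ, Module.End.one_apply]
      obtain ⟨a, ha⟩ := hsurj i (v i)
      rw [← ha, hact, ← sub_eq_zero, sub_eq_add_neg]
      change cls i (MulAut.conjNormal g a * a⁻¹) = 0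
      rw [hcls0]
      push_cast
      rw [MulAut.conjNormal_apply]
      exact i.2.comm hCW hW hg a.2
  refine ⟨V, inferInstance, inferInstance, inferInstance,
    QuotientGroup.lift W ρ0 hker.ge, ?_, fun h hh => ?_⟩
  · rw [← MonoidHom.ker_eq_bot_iff, eq_bot_iff]
    intro a ha
    obtain ⟨g, rfl⟩ := QuotientGroup.mk'_surjective W a
    rw [mem_bot, QuotientGroup.mk'_apply, QuotientGroup.eq_one_iff, ← hker]
    exact ha
  · change (ρ0 h - 1) ^ (2 ^ m - 1) = 0
    rw [← Cfsg.Agent.FGS73.sum_pow_eq]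
    refine LinearMap.ext fun v => funext fun i => ?_
    obtain ⟨a, ha⟩ := hsurj i (v i)
    have hmem : ∀ k : ℕ, ((a : G) * h) ^ k * (h ^ k)⁻¹ ∈ i.1.1 := by
      intro k
      induction k with
      | zero => simp
      | succ k ih =>
        have := mul_mem a.2 (i.2.nX.conj_mem _ ih h)
        convert this using 1
        rw [pow_succ' ((a : G) * h), pow_succ' h]
        group
    have hsum : ∀ k : ℕ, (∑ j ∈ Finset.range k, ρ0 h ^ j) v i = cls i ⟨_, hmem k⟩ := by
      intro k
      induction k with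
      | zero =>
        rw [Finset.range_zero, Finset.sum_empty, LinearMap.zero_apply, Pi.zero_apply, eq_comm,
          hcls0]
        simp
      | succ k ih =>
        have e : (⟨_, hmem (k + 1)⟩ : i.1.1) = a * MulAut.conjNormal h ⟨_, hmem k⟩ := by
          refine Subtype.ext ?_
          push_cast
          rw [MulAut.conjNormal_apply, pow_succ' ((a : G) * h), pow_succ' h]
          group
        rw [geom_sum_succ, LinearMap.add_apply, Module.End.mul_apply, Pi.add_apply, happ, ih,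
          Module.End.one_apply, ← ha, hact, e, add_comm]
        rfl
    rw [hsum, LinearMap.zero_apply, Pi.zero_apply, hcls0]
    exact hN h hh _ _ i.2 _ a.2

end Cfsg.Agent.TwoLen59
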