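import Cfsg.Agent.TwoLen59.Weight
import Cfsg.Agent.FGS73.PLenTwo

/-!
One prime divisor of `O_{2'}(H)`: the kernel of the action on the centre of a critical subgroup, and
its weight spaces.
-/

set_option autoImplicit false

namespace Cfsg.Agent.TwoLen59

open Subgroup Cfsg.Agent.FGS73
open scoped commutatorElement TensorProduct

universe u

theorem exists_local {H : Type u} [Group H] [Finite H] [hsol : Group.IsSolvable H] {V : Type u}
    [AddCommGroup V] [Module (ZMod 2) V] [FiniteDimensional (ZMod 2) V]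
    (ρ : H →* Module.End (ZMod 2) V) (hρ : Function.Injective ρ) (P : Sylow 2 H) {n : ℕ}
    (hn : 1 ≤ n) (hexp : ∀ z ∈ (P : Subgroup H), z ^ 2 ^ (n + 1) = 1)
    (hnil : ∀ z ∈ (P : Subgroup H), (ρ z - 1) ^ (2 ^ (n + 1) - 1) = 0)
    (q : ℕ) [Fact q.Prime] (hq2 : q ≠ 2) :
    ∃ (Q : Sylow q (Cfsg.pPrimeCore 2 H)) (C0 : Subgroup (H ⧸ Cfsg.pPrimeCore 2 H)) (ι : Type u)
      (B : ι → Blk H (P : Subgroup H) n), C0.Normal ∧
      (∀ z ∈ (P : Subgroup H), QuotientGroup.mk' _ z ^ 2 ^ n ∈ C0) ∧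
      (∀ p ∈ (P : Subgroup H), QuotientGroup.mk' _ p ∈ C0 → ∀ b, p ∈ (B b).L) ∧
      ∀ p ∈ (P : Subgroup H), QuotientGroup.mk' (Cfsg.pPrimeCore 2 H) p ∈ C0 →
        (∀ b, ∀ hp : p ∈ (B b).L, (B b).f ⟨p, hp⟩ = 1) →
        ∀ s ∈ (Q : Subgroup (Cfsg.pPrimeCore 2 H)), p * (s : H) = (s : H) * p := by
  classical
  haveI : Fact (Nat.Prime 2) := ⟨Nat.prime_two⟩
  have hqp : q.Prime := Fact.out
  set Q0 := Cfsg.pPrimeCore 2 H with hQ0
  have hQ2 : (Nat.card Q0).Coprime 2 := Cfsg.Agent.Thompson.card_pPrimeCore_coprime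
  have hcop : (Nat.card (P : Subgroup H)).Coprime (Nat.card Q0) := by
    obtain ⟨a, ha⟩ := IsPGroup.iff_card.1 P.2
    rw [ha]
    exact Nat.Coprime.pow_left _ hQ2.symm
  obtain ⟨Q, hQ⟩ := Cfsg.Agent.Coprime.exists_invariant_sylow (P : Subgroup H) Q0
    (by rw [normalizer_eq_top]; exact le_top) hcop
    (Or.inr inferInstance) q
  set S := (Q : Subgroup Q0).map Q0.subtype with hS
  have hSq : IsPGroup q S := Q.2.map _
  obtain ⟨T, hTc, hTcen, hTpow, hTcomm⟩ := Cfsg.Agent.Fus93.exists_critical (p := q) hSq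
  haveI := hTc
  set N := normalizer (S : Set H) with hN
  let act : N →* MulAut S := Subgroup.normalizerMonoidHom S
  have hact : ∀ (g : N) (s : S), ((act g s : S) : H) = (g : H) * s * (g : H)⁻¹ := fun g s => rfl
  have hTi : ∀ (g : N), ∀ t ∈ T, act g t ∈ T := fun g =>
    char_invariant (act g).toMonoidHom (act g).bijective T
  let φ : N →* MulAut T :=
    { toFun := fun g =>
        { toFun := fun t => ⟨act g t, hTi g t t.2⟩
          invFun := fun t => ⟨act g⁻¹ t, hTi g⁻¹ t t.2⟩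
          left_inv := fun t => Subtype.ext (by
            change act g⁻¹ (act g (t : S)) = t
            rw [← MulAut.mul_apply, ← map_mul, inv_mul_cancel, map_one]; rfl)
          right_inv := fun t => Subtype.ext (by
            change act g (act g⁻¹ (t : S)) = t
            rw [← MulAut.mul_apply, ← map_mul, mul_inv_cancel, map_one]; rfl)
          map_mul' := fun a b => Subtype.ext (map_mul (act g) _ _) }
      map_one' := by
        ext t
        change ((act 1 (t : S) : S) : H) = _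
        rw [map_one]; rfl
      map_mul' := fun a b => by
        ext t
        change ((act (a * b) (t : S) : S) : H) = _
        rw [map_mul]; rfl }
  -- extend scalars
  let K := AlgebraicClosure (ZMod 2)
  haveI : CharP K 2 := charP_of_injective_algebraMap (algebraMap (ZMod 2) K).injective 2
  let bc : Module.End (ZMod 2) V →* Module.End K (K ⊗[(ZMod 2)] V) :=
    (Module.End.baseChangeHom (ZMod 2) K V).toRingHom.toMonoidHom
  let ρK : T →* Module.End K (K ⊗[(ZMod 2)] V) := bc.comp (ρ.comp (S.subtype.comp T.subtype))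
  have hρK : Function.Injective ρK := fun a b h =>
    Subtype.ext (Subtype.ext (hρ (baseChangeHom_injective (ZMod 2) K V h)))
  let σK : N →* Module.End K (K ⊗[(ZMod 2)] V) := bc.comp (ρ.comp N.subtype)
  have hcompat : ∀ (g : N) (t : T) w, σK g (ρK t w) = ρK (φ g t) (σK g w) := by
    intro g t w
    change (bc (ρ g) * bc (ρ ((t : S) : H))) w = (bc (ρ ((φ g t : S) : H)) * bc (ρ g)) w
    rw [← map_mul, ← map_mul, ← map_mul, ← map_mul]
    congr 3
    change (g : H) * ((t : S) : H) = (g : H) * ((t : S) : H) * (g : H)⁻¹ * g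
    group
  have hcomm : ∀ a b : T, ⁅a, b⁆ ∈ center T := by
    intro a b
    rw [mem_center_iff]
    intro s
    apply Subtype.ext
    have h1 := mem_centralizer_iff.1 (hTcomm (a : S)⁻¹ (inv_mem a.2) (b : S)) (s : S) s.2
    have h2 : (a : S)⁻¹⁻¹ * ((b : S) * (a : S)⁻¹ * (b : S)⁻¹) = ((⁅a, b⁆ : T) : S) := by
      simp [commutatorElement_def, mul_assoc]
    rw [h2] at h1
    exact h1
  have hpow : ∀ t : T, t ^ q ∈ center T := fun t => mem_center_iff.2 fun s => Subtype.ext (by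
    have h1 := mem_centralizer_iff.1 (hTpow t t.2) (s : S) s.2
    simpa using h1)
  let π : N →* H ⧸ Q0 := (QuotientGroup.mk' Q0).comp N.subtype
  have hπ : Function.Surjective π := by
    intro w
    obtain ⟨h, rfl⟩ := QuotientGroup.mk'_surjective Q0 w
    have h1 := Q.normalizer_sup_eq_top
    obtain ⟨a, ha, b, hb, rfl⟩ := mem_sup_of_normal_right.1 (h1.ge (mem_top h))
    refine ⟨⟨a, ha⟩, ?_⟩
    change QuotientGroup.mk' Q0 a = QuotientGroup.mk' Q0 (a * b)
    rw [map_mul, show QuotientGroup.mk' Q0 b = 1 from (QuotientGroup.eq_one_iff b).2 hb, mul_one]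
  have hcen : ∀ (g : N), ∀ z ∈ center T, φ g z ∈ center T := fun g z hz => by
    rw [mem_center_iff] at hz ⊢
    intro a
    obtain ⟨a, rfl⟩ := (φ g).surjective a
    rw [← map_mul, ← map_mul, hz]
  obtain ⟨aT, haT⟩ := IsPGroup.iff_card.1 (hSq.to_subgroup T)
  have hcenK : (Nat.card (center T) : K) ≠ 0 := by
    rw [Ne, CharP.cast_eq_zero_iff K 2]
    intro hd
    have := hd.trans (card_subgroup_dvd_card (center T))
    rw [haT] at this
    exact hq2 ((Nat.prime_dvd_prime_iff_eq Nat.prime_two hqp).1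
      (Nat.prime_two.dvd_of_dvd_pow this)).symm
  have hcomm' : ∀ a ∈ center T, ∀ b : T, ρK a * ρK b = ρK b * ρK a := fun a ha b => by
    rw [← map_mul, ← map_mul, mem_center_iff.1 ha b]
  have hexp' : ∀ z : N, (z : H) ∈ (P : Subgroup H) → z ^ 2 ^ (n + 1) = 1 := fun z hz =>
    Subtype.ext (by rw [SubmonoidClass.coe_pow, hexp z hz]; rfl)
  have hnil' : ∀ z : N, (z : H) ∈ (P : Subgroup H) → (σK z - 1) ^ (2 ^ (n + 1) - 1) = 0 := by
    intro z hz
    have e : σK z - 1 = Module.End.baseChangeHom (ZMod 2) K V (ρ z - 1) := by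
      rw [map_sub, map_one]; rfl
    rw [e, ← map_pow, hnil z hz, map_zero]
  have hfix : ∀ y : N, (y : H) ∈ (P : Subgroup H) → ∀ z ∈ center T, φ (y ^ 2 ^ n) z = z := by
    intro y hy z hz
    let Z := center T
    let σZ : Z →* Z := ((φ y).toMonoidHom.comp Z.subtype).codRestrict Z fun w => hcen y w w.2
    have hval : ∀ (k : ℕ) (w : Z), (((⇑σZ)^[k] w : Z) : T) = φ (y ^ k) w := by
      intro k w
      induction k with
      | zero => simp
      | succ k ih =>
        rw [Function.iterate_succ_apply', pow_succ', map_mul, MulAut.mul_apply, ← ih]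
        rfl
    have key := end_abelian_norm (ρK.comp Z.subtype) (fun a b => hcomm' a a.2 b)
      σZ (σK y) Nat.prime_two (n := n)
      (fun e => Subtype.ext (by rw [hval, hexp' y hy, map_one]; rfl))
      (norm_of_sub_one_pow _ (hnil' y hy) (Nat.sub_lt (pow_pos two_pos _) one_pos))
      (fun e w => hcompat y (e : T) w) hcenK ⟨z, hz⟩
    have h2 : ρK ((((⟨z, hz⟩ : Z)⁻¹ * (⇑σZ)^[2 ^ n] ⟨z, hz⟩ : Z)) : T) = ρK 1 := by
      rw [map_one]; exact key
    have h3 := hρK h2
    rw [Subgroup.coe_mul, Subgroup.coe_inv, hval, inv_mul_eq_one] at h3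
    exact h3.symm
  let Cz : Subgroup N :=
    { carrier := {c | ∀ z ∈ center T, φ c z = z}
      one_mem' := fun z _ => by simp
      mul_mem' := fun {a b} ha hb z hz => by rw [map_mul, MulAut.mul_apply, hb z hz, ha z hz]
      inv_mem' := fun {a} ha z hz => by
        conv_lhs => rw [← ha z hz]
        rw [← MulAut.mul_apply, ← map_mul, inv_mul_cancel, map_one, MulAut.one_apply] }
  have hCn : Cz.Normal := ⟨fun c hc g z hz => by
    rw [map_mul, map_mul, MulAut.mul_apply, MulAut.mul_apply, hc _ (hcen g⁻¹ z hz),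
      ← MulAut.mul_apply, ← map_mul, mul_inv_cancel, map_one, MulAut.one_apply]⟩
  -- elements of `P` above `Cz` lie in `Cz`
  have hlift : ∀ (p : H) (hp : p ∈ (P : Subgroup H)),
      QuotientGroup.mk' Q0 p ∈ Cz.map π → (⟨p, hQ hp⟩ : N) ∈ Cz := by
    rintro p hp ⟨c, hc, hcp⟩
    set pN : N := ⟨p, hQ hp⟩
    set w := c⁻¹ * pN with hw
    have hwQ : (w : H) ∈ Q0 := by
      rw [← QuotientGroup.eq_one_iff (N := Q0)]
      change π w = 1
      rw [hw, map_mul, map_inv, hcp, inv_mul_eq_one]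
      rfl
    have hmk : QuotientGroup.mk' Cz pN = QuotientGroup.mk' Cz w := by
      rw [hw, map_mul, map_inv, show QuotientGroup.mk' Cz c = 1 from
        (QuotientGroup.eq_one_iff c).2 hc, inv_one, one_mul]
    obtain ⟨l, hl⟩ := P.2 ⟨p, hp⟩
    replace hl : p ^ 2 ^ l = 1 := congrArg Subtype.val hl
    have h2 : orderOf (QuotientGroup.mk' Cz pN) ∣ 2 ^ l := orderOf_dvd_of_pow_eq_one (by
      rw [← map_pow, show pN ^ 2 ^ l = 1 from Subtype.ext (by
        rw [SubmonoidClass.coe_pow]; exact hl), map_one])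
    have h3 : orderOf (QuotientGroup.mk' Cz pN) ∣ Nat.card Q0 := by
      rw [hmk]
      refine (orderOf_map_dvd _ w).trans ?_
      rw [← orderOf_coe w]
      exact (orderOf_coe (⟨(w : H), hwQ⟩ : Q0)).symm ▸ orderOf_dvd_natCard (⟨(w : H), hwQ⟩ : Q0)
    have h4 := Nat.dvd_gcd h2 h3
    rw [(Nat.Coprime.pow_left l hQ2.symm).gcd_eq_one, Nat.dvd_one, orderOf_eq_one_iff,
      QuotientGroup.mk'_apply, QuotientGroup.eq_one_iff] at h4
    exact h4
  let Ψ := {ψ : T → K // ∃ v₀ : K ⊗[ZMod 2] V, v₀ ≠ 0 ∧ ∀ z ∈ center T, ρK z v₀ = ψ z • v₀}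
  choose B hBL hBf using fun ψ : Ψ =>
    weight_block (P : Subgroup H) N hQ hn φ (hSq.to_subgroup T) hq2 hcomm hpow ρK σK hcompat hexp'
      hnil' hfix ψ.1 ψ.2
  refine ⟨Q, Cz.map π, Ψ, B, hCn.map π hπ, fun z hz => ⟨⟨z, hQ hz⟩ ^ 2 ^ n, hfix _ hz, ?_⟩,
    fun p hp hpC ψ => hBL ψ ⟨p, hQ hp⟩ (hlift p hp hpC), ?_⟩
  · rw [map_pow]; rfl
  intro p hp hpC hpf s hs
  set x : N := ⟨p, hQ hp⟩
  have hxC : ∀ z ∈ center T, φ x z = z := hlift p hp hpC
  obtain ⟨l, hl⟩ := P.2 ⟨p, hp⟩
  have hlp : p ^ 2 ^ l = 1 := congrArg Subtype.val hl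
  replace hl : x ^ 2 ^ l = 1 := Subtype.ext (by rw [SubmonoidClass.coe_pow]; exact hlp)
  have hTfix : ∀ t, φ x t = t := by
    intro t
    set d := t⁻¹ * φ x t with hd
    have hdc : d ∈ center T := by
      by_contra hdc
      obtain ⟨x₀, hx₀⟩ : ∃ x₀ : T, ⁅x₀, d⁆ ≠ 1 := by
        by_contra h
        push Not at h
        exact hdc (mem_center_iff.2 fun g => commutatorElement_eq_one_iff_mul_comm.1 (h g))
      obtain ⟨ψ, hL, hψc⟩ := exists_weight_ne_one ρK (center T)
        (fun a ha b _ v => LinearMap.congr_fun (hcomm' a ha b) v) hcenK (hcomm x₀ d)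
        (fun h => hx₀ (hρK (h.trans (map_one ρK).symm)))
      obtain ⟨v, hv, hv0⟩ := Submodule.exists_mem_ne_zero_of_ne_bot hL
      exact hψc (hBf ⟨ψ, v, hv0, hv.2⟩ x (hBL _ x hxC) (hpf _ _) t x₀)
    have hpowx : ∀ k : ℕ, φ (x ^ k) t = t * d ^ k := by
      intro k
      induction k with
      | zero => simp
      | succ k ih =>
        rw [pow_succ', map_mul, MulAut.mul_apply, ih, map_mul, map_pow, hxC d hdc,
          show φ x t = t * d by rw [hd]; group, mul_assoc, ← pow_succ']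
    have h1 := hpowx (2 ^ l)
    rw [hl, map_one, MulAut.one_apply, left_eq_mul] at h1
    obtain ⟨i, hi⟩ := (hSq.to_subgroup T) d
    have h2 := Nat.dvd_gcd (orderOf_dvd_of_pow_eq_one h1) (orderOf_dvd_of_pow_eq_one hi)
    rw [(Nat.Coprime.pow _ _ ((Nat.coprime_primes Nat.prime_two hqp).2 hq2.symm)).gcd_eq_one,
      Nat.dvd_one, orderOf_eq_one_iff, hd, inv_mul_eq_one] at h2
    exact h2.symm
  have hfixT : ∀ t ∈ T, act x t = t := fun t ht => congrArg Subtype.val (hTfix ⟨t, ht⟩)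
  set s' : S := ⟨(s : H), ⟨s, hs, rfl⟩⟩
  set d := s'⁻¹ * act x s' with hd
  have hdT : d ∈ T := by
    refine hTcen (mem_centralizer_iff.2 fun t ht => ?_)
    have h1 := hfixT _ ((Subgroup.normal_of_characteristic T).conj_mem t ht s')
    rw [map_mul, map_mul, map_inv, hfixT t ht] at h1
    rw [hd]
    symm
    calc s'⁻¹ * act x s' * t = s'⁻¹ * (act x s' * t * (act x s')⁻¹) * act x s' := by group
      _ = t * (s'⁻¹ * act x s') := by rw [h1]; group
  have hit : ∀ i : ℕ, act (x ^ i) s' = s' * d ^ i := by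
    intro i
    induction i with
    | zero => simp
    | succ i ih =>
      rw [pow_succ', map_mul, MulAut.mul_apply, ih, map_mul, map_pow, hfixT d hdT,
        show act x s' = s' * d by rw [hd]; group, mul_assoc, ← pow_succ']
  have h1 := hit (2 ^ l)
  rw [hl, map_one, MulAut.one_apply, left_eq_mul] at h1
  obtain ⟨i, hi⟩ := hSq d
  have h2 := Nat.dvd_gcd (orderOf_dvd_of_pow_eq_one h1) (orderOf_dvd_of_pow_eq_one hi)
  rw [(Nat.Coprime.pow _ _ ((Nat.coprime_primes Nat.prime_two hqp).2 hq2.symm)).gcd_eq_one,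
    Nat.dvd_one, orderOf_eq_one_iff, hd, inv_mul_eq_one] at h2
  have h5 := congrArg Subtype.val h2.symm
  rw [hact] at h5
  exact mul_inv_eq_iff_eq_mul.1 h5

end Cfsg.Agent.TwoLen59
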