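import Cfsg.Agent.TwoLen59.Chief
import Cfsg.Agent.TwoLen59.Local

/-!
The norm of a 2-element is trivial on the chief factors of a critical subgroup of `O_{2',2}`.
-/

set_option autoImplicit false

namespace Cfsg.Agent.TwoLen59

open Subgroup Cfsg.Agent.FGS73

universe u

section twist

variable {G : Type*} [Group G]

theorem twist_mem {Z : Subgroup G} (hZ : Z.Normal) {a : G} (ha : a ∈ Z) (h : G) (k : ℕ) :
    (a * h) ^ k * (h ^ k)⁻¹ ∈ Z := by
  rw [← QuotientGroup.eq_one_iff (N := Z)]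
  change QuotientGroup.mk' Z _ = 1
  rw [map_mul, map_inv, map_pow, map_pow, map_mul,
    show QuotientGroup.mk' Z a = 1 from (QuotientGroup.eq_one_iff a).2 ha, one_mul, mul_inv_cancel]

/-- Modulo a normal subgroup containing the commutators of `A`, the twist is multiplicative. -/
theorem twist_mul {A Z : Subgroup G} [hA : A.Normal] [hZ : Z.Normal]
    (hcomm : ∀ a ∈ A, ∀ b ∈ A, a * b * a⁻¹ * b⁻¹ ∈ Z) {a b : G} (ha : a ∈ A) (hb : b ∈ A)
    (h : G) (k : ℕ) :
    QuotientGroup.mk' Z ((a * b * h) ^ k * (h ^ k)⁻¹) =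
      QuotientGroup.mk' Z ((a * h) ^ k * (h ^ k)⁻¹) *
        QuotientGroup.mk' Z ((b * h) ^ k * (h ^ k)⁻¹) := by
  have hc : ∀ a ∈ A, ∀ b ∈ A, Commute (QuotientGroup.mk' Z a) (QuotientGroup.mk' Z b) := by
    intro a ha b hb
    have h1 : QuotientGroup.mk' Z (a * b * a⁻¹ * b⁻¹) = 1 :=
      (QuotientGroup.eq_one_iff _).2 (hcomm a ha b hb)
    rw [map_mul, map_mul, map_mul, map_inv, map_inv, mul_inv_eq_one, mul_inv_eq_iff_eq_mul] at h1
    exact h1
  induction k with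
  | zero => simp
  | succ k ih =>
    have e : ∀ x : G, (x * h) ^ (k + 1) * (h ^ (k + 1))⁻¹ =
        x * (h * ((x * h) ^ k * (h ^ k)⁻¹) * h⁻¹) := fun x => by
      rw [pow_succ' (x * h), pow_succ' h]; group
    rw [e, e, e, map_mul (QuotientGroup.mk' Z) (a * b), map_mul (QuotientGroup.mk' Z) a,
      map_mul (QuotientGroup.mk' Z) a, map_mul (QuotientGroup.mk' Z) b]
    have e2 : QuotientGroup.mk' Z (h * ((a * b * h) ^ k * (h ^ k)⁻¹) * h⁻¹) =
        QuotientGroup.mk' Z (h * ((a * h) ^ k * (h ^ k)⁻¹) * h⁻¹) *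
          QuotientGroup.mk' Z (h * ((b * h) ^ k * (h ^ k)⁻¹) * h⁻¹) := by
      rw [map_mul, map_mul, map_mul _ (h * ((a * h) ^ k * (h ^ k)⁻¹)), map_mul _ h,
        map_mul _ (h * ((b * h) ^ k * (h ^ k)⁻¹)), map_mul _ h, ih, map_inv]
      group
    rw [e2]
    exact (hc b hb _ (hA.conj_mem _ (twist_mem hA ha h k) h)).mul_mul_mul_comm _ _

theorem twist_pow {A Z : Subgroup G} [A.Normal] [Z.Normal]
    (hcomm : ∀ a ∈ A, ∀ b ∈ A, a * b * a⁻¹ * b⁻¹ ∈ Z) {a : G} (ha : a ∈ A) (h : G) (k i : ℕ) :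
    QuotientGroup.mk' Z ((a ^ i * h) ^ k * (h ^ k)⁻¹) =
      QuotientGroup.mk' Z ((a * h) ^ k * (h ^ k)⁻¹) ^ i := by
  induction i with
  | zero => rw [pow_zero, one_mul, mul_inv_cancel, map_one, pow_zero]
  | succ i ih => rw [pow_succ, twist_mul hcomm (pow_mem ha i) ha, ih, pow_succ]

end twist

variable {H : Type u} [Group H] [Finite H] [Group.IsSolvable H] {V : Type u} [AddCommGroup V]
  [Module (ZMod 2) V] [FiniteDimensional (ZMod 2) V]

/-- The norm of a 2-element acts as zero on each chief factor below a critical subgroup. -/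
theorem norm_mem (ρ : H →* Module.End (ZMod 2) V) (hρ : Function.Injective ρ)
    (hO : Cfsg.pCore 2 H = ⊥) {n : ℕ} (hn : 1 ≤ n)
    (hexp : ∀ y : H, (∃ l, y ^ 2 ^ l = 1) → y ^ 2 ^ (n + 1) = 1)
    (hnil : ∀ y : H, (∃ l, y ^ 2 ^ l = 1) → (ρ y - 1) ^ (2 ^ (n + 1) - 1) = 0)
    {C : Subgroup (H ⧸ Cfsg.pPrimeCore 2 H)}
    (hCW : C ≤ Cfsg.pCore 2 (H ⧸ Cfsg.pPrimeCore 2 H))
    (hsq : ∀ a ∈ C, ∀ c ∈ C, a ^ 2 * c = c * a ^ 2)
    (hcom : ∀ a ∈ C, ∀ g ∈ Cfsg.pCore 2 (H ⧸ Cfsg.pPrimeCore 2 H), ∀ c ∈ C,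
      a⁻¹ * (g * a * g⁻¹) * c = c * (a⁻¹ * (g * a * g⁻¹)))
    {X Y : Subgroup (H ⧸ Cfsg.pPrimeCore 2 H)} (hXY : IsChief C X Y)
    {h : H ⧸ Cfsg.pPrimeCore 2 H} (hh : ∃ l, h ^ 2 ^ l = 1) {x : H ⧸ Cfsg.pPrimeCore 2 H}
    (hx : x ∈ X) : (x * h) ^ 2 ^ n * (h ^ 2 ^ n)⁻¹ ∈ Y := by
  classical
  haveI : Fact (Nat.Prime 2) := ⟨Nat.prime_two⟩
  by_contra hbad
  haveI := hXY.nX
  haveI := hXY.nY
  have hQ2 : (Nat.card (Cfsg.pPrimeCore 2 H)).Coprime 2 := Cfsg.Agent.Thompson.card_pPrimeCore_coprime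
  let π := QuotientGroup.mk' (Cfsg.pPrimeCore 2 H)
  have hπ : Function.Surjective π := QuotientGroup.mk'_surjective (Cfsg.pPrimeCore 2 H)
  obtain ⟨y, hy2, rfl⟩ := exists_pelt_lift π hπ hh
  obtain ⟨P, hyP⟩ : ∃ P : Sylow 2 H, y ∈ (P : Subgroup H) := by
    obtain ⟨l, hl⟩ := hy2
    have hZ : IsPGroup 2 (zpowers y) := by
      obtain ⟨k, -, hk⟩ := (Nat.dvd_prime_pow Nat.prime_two).1 (orderOf_dvd_of_pow_eq_one hl)
      exact IsPGroup.of_card (n := k) (by rw [Nat.card_zpowers, hk])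
    obtain ⟨P, hP⟩ := hZ.exists_le_sylow
    exact ⟨P, hP (mem_zpowers y)⟩
  have hP2 : ∀ z ∈ (P : Subgroup H), ∃ l, z ^ 2 ^ l = 1 := fun z hz =>
    (P.2 ⟨z, hz⟩).imp fun l hl => congrArg Subtype.val hl
  have hP1 : ∀ z ∈ (P : Subgroup H), π z = 1 → z = 1 := by
    intro z hz hz1
    refine eq_one_of_odd_of_two_pow ?_ (hP2 z hz)
    have h1 : orderOf z ∣ Nat.card (Cfsg.pPrimeCore 2 H) := by
      rw [← orderOf_mk z ((QuotientGroup.eq_one_iff z).1 hz1)]
      exact orderOf_dvd_natCard _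
    exact (Nat.coprime_two_right.1 hQ2).of_dvd_nat h1
  have hPinj : ∀ a ∈ (P : Subgroup H), ∀ b ∈ (P : Subgroup H), π a = π b → a = b := by
    intro a ha b hb hab
    exact inv_mul_eq_one.1 (hP1 _ (mul_mem (inv_mem ha) hb) (by
      rw [map_mul, map_inv, hab, inv_mul_cancel]))
  have hWP : ∀ w ∈ (Cfsg.pCore 2 (H ⧸ Cfsg.pPrimeCore 2 H)), ∃ p ∈ (P : Subgroup H), π p = w := by
    intro w hw
    have h1 := Cfsg.Agent.Thompson.pCore_le_sylow (P.mapSurjective hπ) hw
    rw [Sylow.coe_mapSurjective] at h1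
    exact h1
  have hτW : ∀ z ∈ (P : Subgroup H), π z ^ 2 ^ n ∈ (Cfsg.pCore 2 (H ⧸ Cfsg.pPrimeCore 2 H)) := fun z hz =>
    tau_mem_core ρ hρ hO (hexp z (hP2 z hz)) (hnil z (hP2 z hz))
  -- the weight spaces
  let J := {q : ℕ // q ∈ (Nat.card (Cfsg.pPrimeCore 2 H)).primeFactors}
  have hJ : ∀ q : J, Fact (q : ℕ).Prime := fun q => ⟨Nat.prime_of_mem_primeFactors q.2⟩
  have hJ2 : ∀ q : J, (q : ℕ) ≠ 2 := fun q h => by
    have := Nat.dvd_of_mem_primeFactors q.2
    rw [h] at this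
    exact Nat.prime_two.coprime_iff_not_dvd.1 hQ2.symm this
  choose Qs C0 κ B hC0n hC0τ hC0L hC0sep using fun q : J =>
    haveI := hJ q
    exists_local ρ hρ P hn (fun z hz => hexp z (hP2 z hz)) (fun z hz => hnil z (hP2 z hz))
      (q : ℕ) (hJ2 q)
  set K0 := ⨅ q, C0 q with hK0
  haveI : K0.Normal := normal_iInf_normal hC0n
  have sep : ∀ p ∈ (P : Subgroup H), π p ∈ K0 →
      (∀ q b, ∀ hp : p ∈ (B q b).L, (B q b).f ⟨p, hp⟩ = 1) → p = 1 := by
    intro p hp hpK hpf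
    have hpQ : ∀ s ∈ (Cfsg.pPrimeCore 2 H), p * s = s * p := by
      let Cp : Subgroup (Cfsg.pPrimeCore 2 H) := (centralizer {p}).subgroupOf (Cfsg.pPrimeCore 2 H)
      have hCp : Cp = ⊤ := by
        rw [← Subgroup.index_eq_one]
        by_contra hne
        obtain ⟨r, hr, hrd⟩ := Nat.exists_prime_and_dvd hne
        let qr : J := ⟨r, Nat.mem_primeFactors.2
          ⟨hr, hrd.trans (Subgroup.index_dvd_card Cp), Nat.card_pos.ne'⟩⟩
        haveI := hJ qr
        refine (Qs qr).not_dvd_index (hrd.trans (Subgroup.index_dvd_of_le fun s hs => ?_))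
        exact mem_centralizer_singleton_iff.2
          (hC0sep qr p hp (mem_iInf.1 hpK qr) (hpf qr) s hs).symm
      intro s hs
      have h1 : (⟨s, hs⟩ : (Cfsg.pPrimeCore 2 H)) ∈ Cp := hCp ▸ mem_top _
      exact (mem_centralizer_singleton_iff.1 h1).symm
    exact hP1 p hp ((QuotientGroup.eq_one_iff p).2 (Cfsg.Agent.Thompson.centralizer_pPrimeCore_le
      OddLocal44.isPSolvable_of_isSolvable hO
      (mem_centralizer_iff.2 fun s hs => (hpQ s hs).symm)))
  have hNK : ∀ a ∈ (Cfsg.pCore 2 (H ⧸ Cfsg.pPrimeCore 2 H)), (a * π y) ^ 2 ^ n * (π y ^ 2 ^ n)⁻¹ ∈ K0 := by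
    intro a ha
    obtain ⟨p, hp, rfl⟩ := hWP a ha
    refine mem_iInf.2 fun q => ?_
    rw [← map_mul π p y]
    exact mul_mem (hC0τ q _ (mul_mem hp hyP)) (inv_mem (hC0τ q _ hyP))
  -- a minimal normal subgroup covering the factor
  obtain ⟨W0, ⟨hW0n, hW0le, hW0Y⟩, hW0min⟩ := (Set.toFinite
    {Z : Subgroup (H ⧸ (Cfsg.pPrimeCore 2 H)) | Z.Normal ∧ Z ≤ X ⊓ K0 ∧ ¬ Z ≤ Y}).exists_minimal
    ⟨X ⊓ K0, inferInstance, le_rfl, fun hle => hbad (hle (mem_inf.2
      ⟨twist_mem hXY.nX hx (π y) _, hNK x (hCW (hXY.le hx))⟩))⟩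
  haveI := hW0n
  have hW0X : W0 ≤ X := hW0le.trans inf_le_left
  have hW0C : W0 ≤ C := hW0X.trans hXY.le
  have hW0K : W0 ≤ K0 := hW0le.trans inf_le_right
  have hmin : ∀ Z : Subgroup (H ⧸ (Cfsg.pPrimeCore 2 H)), Z.Normal → Z ≤ W0 → Z ≠ W0 → Z ≤ Y := by
    intro Z hZ hle hne
    by_contra hc
    exact hne (le_antisymm hle (hW0min ⟨hZ, hle.trans hW0le, hc⟩ hle))
  obtain ⟨w, hw, hwbad⟩ : ∃ w ∈ W0, (w * π y) ^ 2 ^ n * (π y ^ 2 ^ n)⁻¹ ∉ Y := by
    have hsup : W0 ⊔ Y = X := (hXY.min (W0 ⊔ Y) (sup_normal W0 Y) le_sup_right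
      (sup_le hW0X hXY.lt.le)).resolve_left fun hc => hW0Y (sup_eq_right.1 hc)
    obtain ⟨w, hw, v, hv, hwv⟩ := mem_sup_of_normal_right.1 (hsup.ge hx)
    refine ⟨w, hw, fun hc => hbad ?_⟩
    rw [← QuotientGroup.eq_one_iff (N := Y)] at hc ⊢
    change QuotientGroup.mk' Y _ = 1 at hc ⊢
    rw [map_mul, map_inv, map_pow, map_mul] at hc ⊢
    rw [← hwv, map_mul, show QuotientGroup.mk' Y v = 1 from (QuotientGroup.eq_one_iff v).2 hv,
      mul_one]
    exact hc
  -- the elements of `P` above `W0`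
  set A : Subgroup H := (P : Subgroup H) ⊓ W0.comap π with hA
  have hAL : ∀ q b, ∀ a ∈ A, a ∈ (B q b).L := fun q b a ha =>
    hC0L q a (mem_inf.1 ha).1 (mem_iInf.1 (hW0K (mem_inf.1 ha).2) q) b
  set m := 2 ^ (n - 1) with hm
  have hmn : m * 2 = 2 ^ n := by rw [hm, ← pow_succ, Nat.sub_add_cancel hn]
  set t := y ^ m with ht
  have htP : t ∈ (P : Subgroup H) := pow_mem hyP _
  -- the twist of `a`
  have hu : ∀ a ∈ A, t⁻¹ * (a * y) ^ m ∈ A := by
    intro a ha
    refine mem_inf.2 ⟨mul_mem (inv_mem htP) (pow_mem (mul_mem (mem_inf.1 ha).1 hyP) _), ?_⟩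
    rw [mem_comap]
    have h1 := hW0n.conj_mem _ (twist_mem hW0n (mem_comap.1 (mem_inf.1 ha).2) (π y) m) (π t)⁻¹
    rw [ht, map_mul, map_inv, map_pow, map_pow, map_mul]
    convert h1 using 1
    rw [ht, map_pow]
    group
  have hsq2 : ∀ a : H, (t * (t⁻¹ * (a * y) ^ m)) ^ 2 = (a * y) ^ 2 ^ n := fun a => by
    rw [mul_inv_cancel_left, ← pow_mul, hmn]
  have ht2 : t ^ 2 = y ^ 2 ^ n := by rw [ht, ← pow_mul, hmn]
  -- outside the exceptional weights
  have hgood : ∀ q b, t ∉ (B q b).L → ∀ a ∈ A,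
      ∀ hd : (a * y) ^ 2 ^ n * (y ^ 2 ^ n)⁻¹ ∈ (B q b).L, (B q b).f ⟨_, hd⟩ = 1 := by
    intro q b htL a ha hd
    have haP := (mem_inf.1 ha).1
    have h1 := ((B q b).alt y hyP).resolve_right htL
    have h2 := ((B q b).alt (a * y) (mul_mem haP hyP)).resolve_right fun hc => htL (by
      have := mul_mem hc (inv_mem (hAL q b _ (hu a ha)))
      rwa [← hm, mul_inv_rev, inv_inv, mul_inv_cancel_left] at this)
    have hy' := (B q b).mem y hyP
    have hz' := (B q b).mem (a * y) (mul_mem haP hyP)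
    rw [show (⟨_, hd⟩ : (B q b).L) = ⟨_, hz'⟩ * ⟨_, hy'⟩⁻¹ from rfl, map_mul, h2 hz', one_mul]
    have h3 : (B q b).f ⟨_, hy'⟩⁻¹ * (B q b).f ⟨_, hy'⟩ = 1 := by
      rw [← map_mul, inv_mul_cancel, map_one]
    rwa [h1 hy', mul_one] at h3
  have hdA : ∀ a ∈ A, (a * y) ^ 2 ^ n * (y ^ 2 ^ n)⁻¹ ∈ A := by
    intro a ha
    refine mem_inf.2 ⟨mul_mem (pow_mem (mul_mem (mem_inf.1 ha).1 hyP) _)
      (inv_mem (pow_mem hyP _)), ?_⟩
    rw [mem_comap, map_mul, map_inv, map_pow, map_pow, map_mul]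
    exact twist_mem hW0n (mem_comap.1 (mem_inf.1 ha).2) (π y) _
  have hconjA : ∀ g ∈ (P : Subgroup H), ∀ a ∈ A, g * a * g⁻¹ ∈ A := fun g hg a ha =>
    mem_inf.2 ⟨mul_mem (mul_mem hg (mem_inf.1 ha).1) (inv_mem hg), by
      rw [mem_comap, map_mul, map_mul, map_inv]
      exact hW0n.conj_mem _ (mem_comap.1 (mem_inf.1 ha).2) _⟩
  have hAinj : ∀ a ∈ A, ∀ b ∈ A, π a * π b = π b * π a → a * b = b * a := fun a ha b hb hab =>
    hPinj _ (mem_inf.1 (mul_mem ha hb)).1 _ (mem_inf.1 (mul_mem hb ha)).1 (by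
      rw [map_mul, map_mul, hab])
  have hGrp : ∀ q b, ∀ htL : t ∈ (B q b).L,
      Grp (A.subgroupOf (B q b).L) (⟨t, htL⟩ : (B q b).L) := fun q b htL =>
    ⟨fun g hg => mem_subgroupOf.2 (hconjA t htP _ (mem_subgroupOf.1 hg)),
      fun g hg => mem_subgroupOf.2 (by
        have := hconjA t⁻¹ (inv_mem htP) _ (mem_subgroupOf.1 hg)
        rwa [inv_inv] at this),
      fun a ha c hc => Subtype.ext (hAinj _ (pow_mem (mem_subgroupOf.1 ha) 2) _
        (mem_subgroupOf.1 hc) (by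
          rw [map_pow]
          exact hsq _ (hW0C (mem_comap.1 (mem_inf.1 (mem_subgroupOf.1 ha)).2)) _
            (hW0C (mem_comap.1 (mem_inf.1 (mem_subgroupOf.1 hc)).2)))),
      fun g hg => (hP2 _ (mem_inf.1 (mem_subgroupOf.1 hg)).1).imp fun l hl => Subtype.ext hl⟩
  have hok : ∀ q b, ∀ htL : t ∈ (B q b).L, ∀ a ∈ A, ∀ hu' : t⁻¹ * (a * y) ^ m ∈ (B q b).L,
      Ok (B q b).f (⟨t, htL⟩ * ⟨_, hu'⟩) := by
    intro q b htL a ha hu'
    have hmem : (a * y) ^ 2 ^ (n - 1) ∈ (B q b).L := by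
      have := mul_mem htL hu'
      rwa [mul_inv_cancel_left] at this
    rw [show (⟨t, htL⟩ * ⟨_, hu'⟩ : (B q b).L) = ⟨_, hmem⟩ from
      Subtype.ext (mul_inv_cancel_left t _)]
    exact (B q b).ok _ (mul_mem (mem_inf.1 ha).1 hyP) hmem
  obtain ⟨p, hp, hpw⟩ := hWP w (hCW (hW0C hw))
  have hpA : p ∈ A := mem_inf.2 ⟨hp, by rw [mem_comap, hpw]; exact hw⟩
  by_cases hab : ∀ a ∈ W0, ∀ c ∈ W0, a * c = c * a
  · -- `W0` abelian
    have hcomm : ∀ a ∈ W0, ∀ c ∈ W0, a * c * a⁻¹ * c⁻¹ ∈ (⊥ : Subgroup (H ⧸ (Cfsg.pPrimeCore 2 H))) :=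
      fun a ha c hc => by rw [mem_bot, hab a ha c hc]; group
    have hmk1 : Function.Injective (QuotientGroup.mk' (⊥ : Subgroup (H ⧸ (Cfsg.pPrimeCore 2 H)))) := by
      rw [← MonoidHom.ker_eq_bot_iff, QuotientGroup.ker_mk']
    have hhom : ∀ a ∈ W0, ∀ (k i : ℕ),
        (a ^ i * π y) ^ k * (π y ^ k)⁻¹ = ((a * π y) ^ k * (π y ^ k)⁻¹) ^ i :=
      fun a ha k i => hmk1 (by rw [twist_pow hcomm ha, map_pow])
    have hinvol : ∀ a ∈ A, a ^ 2 = 1 → (a * y) ^ 2 ^ n * (y ^ 2 ^ n)⁻¹ = 1 := by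
      intro a ha ha2
      have hπa : π a ^ 2 = 1 := by rw [← map_pow, ha2, map_one]
      refine sep _ (mem_inf.1 (hdA a ha)).1 (hW0K (mem_inf.1 (hdA a ha)).2) fun q b hd => ?_
      by_cases htL : t ∈ (B q b).L
      · set f := (B q b).f
        set G' := A.subgroupOf (B q b).L
        set T' : (B q b).L := ⟨t, htL⟩
        set U' : (B q b).L := ⟨_, hAL q b _ (hu a ha)⟩ with hU'
        have hU2 : U' ^ 2 = 1 := by
          refine Subtype.ext (hP1 _ (pow_mem (mem_inf.1 (hu a ha)).1 2) ?_)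
          change π ((t⁻¹ * (a * y) ^ m) ^ 2) = 1
          have h1 := hhom (π a) (mem_comap.1 (mem_inf.1 ha).2) m 2
          rw [hπa, one_mul, mul_inv_cancel] at h1
          rw [ht, map_pow, map_mul, map_inv, map_pow, map_pow, map_mul]
          calc ((π y ^ m)⁻¹ * (π a * π y) ^ m) ^ 2
              = (π y ^ m)⁻¹ * ((π a * π y) ^ m * (π y ^ m)⁻¹) ^ 2 * π y ^ m := by
                simp only [pow_two]; group
            _ = 1 := by rw [← h1]; group
        have hG := hGrp q b htL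
        have hcen : Cen G' U' := ⟨mem_subgroupOf.2 (hu a ha), fun g hg => Subtype.ext
          (hAinj _ (hu a ha) _ (mem_subgroupOf.1 hg) (hab _ (mem_inf.1 (hu a ha)).2 _
            (mem_inf.1 (mem_subgroupOf.1 hg)).2))⟩
        have hokt : Ok f T' := by
          have := hok q b htL 1 (one_mem _) (by rw [one_mul, ← ht, inv_mul_cancel]; exact one_mem _)
          convert this using 1
          exact Subtype.ext (by simp [T', ht])
        have hok' : Ok f (T' * U') := hok q b htL a ha (hAL q b _ (hu a ha))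
        have hU2' : f (U' ^ 2) = 1 := by rw [hU2, map_one]
        have key : f (((T' * U') ^ 2) * (T' ^ 2)⁻¹) = 1 := by
          by_cases hboth : f (T' ^ 2) = 1 ∧ f ((T' * U') ^ 2) = 1
          · have h3 : f (T' ^ 2)⁻¹ * f (T' ^ 2) = 1 := by rw [← map_mul, inv_mul_cancel, map_one]
            rw [hboth.1, mul_one] at h3
            rw [map_mul, hboth.2, h3, one_mul]
          have hUT : ∀ v, f U' (f T' v) = f T' (f U' v) := by
            by_cases hne : f (T' ^ 2) = 1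
            · have hne' : f ((T' * U') ^ 2) ≠ 1 := fun h => hboth ⟨hne, h⟩
              have hG' : Grp G' (T' * U') :=
                ⟨fun g hg => by
                    have := hG.conj _ (mul_mem (mul_mem hcen.1 hg) (inv_mem hcen.1))
                    rwa [show T' * (U' * g * U'⁻¹) * T'⁻¹ = T' * U' * g * (T' * U')⁻¹ by group]
                      at this,
                  fun g hg => by
                    have := mul_mem (mul_mem (inv_mem hcen.1) (hG.conj' g hg)) hcen.1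
                    rwa [show U'⁻¹ * (T'⁻¹ * g * T') * U' = (T' * U')⁻¹ * g * (T' * U') by group]
                      at this, hG.sq, hG.two⟩
              intro v
              have h1 := inv_comm (B q b).ne_two (B q b).inv hG' hok' hne' hcen hU2' (f U'⁻¹ v)
              have h3 : f U' (f U'⁻¹ v) = v := by
                rw [← Module.End.mul_apply, ← map_mul, mul_inv_cancel, map_one,
                  Module.End.one_apply]
              simp only [map_mul, Module.End.mul_apply] at h1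
              rwa [h3] at h1
            · exact inv_comm (B q b).ne_two (B q b).inv hG hokt hne hcen hU2'
          have hc : f U' * f T' = f T' * f U' := LinearMap.ext hUT
          have h4 : f ((T' * U') ^ 2) = f (T' ^ 2) := by
            calc f ((T' * U') ^ 2) = f T' * (f U' * f T') * f U' := by
                  simp only [pow_two, map_mul, mul_assoc]
              _ = f (T' ^ 2) * f (U' ^ 2) := by rw [hc]; simp only [pow_two, map_mul, mul_assoc]
              _ = f (T' ^ 2) := by rw [hU2', mul_one]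
          rw [map_mul, h4, ← map_mul, mul_inv_cancel, map_one]
        convert key using 2
        exact Subtype.ext (by
          simp only [Subgroup.coe_mul, SubmonoidClass.coe_pow, Subgroup.coe_inv, T', U', hsq2, ht2])
      · exact hgood q b htL a ha hd
    obtain ⟨c, hc⟩ := IsPGroup.iff_card.1 ((Cfsg.Agent.Thompson.isPGroup_pCore (p := 2)
      (G := H ⧸ (Cfsg.pPrimeCore 2 H))).to_le (hW0C.trans hCW))
    have hex : ∃ k, ∀ a ∈ W0, a ^ 2 ^ k = 1 := ⟨c, fun a ha => by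
      have := congrArg Subtype.val (pow_card_eq_one' (x := (⟨a, ha⟩ : W0)))
      rw [hc] at this
      exact this⟩
    have hk := Nat.find_spec hex
    obtain ⟨j, hj⟩ : ∃ j, Nat.find hex = j + 1 := by
      refine Nat.exists_eq_succ_of_ne_zero fun h0 => hW0Y fun a ha => ?_
      have := hk a ha
      rw [h0, pow_zero, pow_one] at this
      rw [this]; exact one_mem _
    rw [hj] at hk
    have hjlt := Nat.find_min hex (show j < Nat.find hex by omega)
    let Z : Subgroup (H ⧸ (Cfsg.pPrimeCore 2 H)) :=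
      { carrier := {a | a ∈ W0 ∧ a ^ 2 ^ j = 1}
        one_mem' := ⟨one_mem _, one_pow _⟩
        mul_mem' := fun {a b} ha hb => ⟨mul_mem ha.1 hb.1, by
          rw [(show Commute a b from hab a ha.1 b hb.1).mul_pow, ha.2, hb.2, one_mul]⟩
        inv_mem' := fun {a} ha => ⟨inv_mem ha.1, by rw [inv_pow, ha.2, inv_one]⟩ }
    have hZ : Z ≤ Y := hmin Z ⟨fun a ha g => ⟨hW0n.conj_mem a ha.1 g, by
        rw [conj_pow, ha.2, mul_one, mul_inv_cancel]⟩⟩ (fun a ha => ha.1)
      fun hc => hjlt fun a ha => ((hc.ge ha : a ∈ Z)).2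
    refine hwbad (hZ ⟨twist_mem hW0n hw _ _, ?_⟩)
    rw [← hhom w hw]
    have h1 := congrArg π (hinvol (p ^ 2 ^ j) (pow_mem hpA _) (hP1 _
      (pow_mem (pow_mem hp _) _) (by rw [map_pow, map_pow, hpw, ← pow_mul, ← pow_succ, hk w hw])))
    simp only [map_mul, map_inv, map_pow, map_one, hpw] at h1
    exact h1
  · -- `W0` not abelian
    have hcen : ∀ a ∈ W0, ∀ g ∈ (Cfsg.pCore 2 (H ⧸ Cfsg.pPrimeCore 2 H)), ∀ c ∈ W0, g * a * g⁻¹ * a⁻¹ * c = c * (g * a * g⁻¹ * a⁻¹) := by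
      intro a ha g hg c hc
      have h1 := hcom a (hW0C ha) g hg a (hW0C ha)
      have e : g * a * g⁻¹ * a⁻¹ = a⁻¹ * (g * a * g⁻¹) := by
        calc g * a * g⁻¹ * a⁻¹ = a * (a⁻¹ * (g * a * g⁻¹)) * a⁻¹ := by group
          _ = a⁻¹ * (g * a * g⁻¹) * a * a⁻¹ := by rw [h1]
          _ = _ := by group
      rw [e]
      exact hcom a (hW0C ha) g hg c (hW0C hc)
    have hcen' : ∀ a ∈ W0, ∀ g ∈ W0, (g * a * g⁻¹ * a⁻¹) ^ 2 = 1 := by
      intro a ha g hg
      set c := g * a * g⁻¹ * a⁻¹ with hc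
      have h1 : c * a = a * c := hcen a ha g (hCW (hW0C hg)) a ha
      have h2 : g * a ^ 2 * g⁻¹ = a ^ 2 := by
        rw [← hsq a (hW0C ha) g (hW0C hg)]; group
      rw [← conj_pow, show g * a * g⁻¹ = c * a by rw [hc]; group,
        (show Commute c a from h1).mul_pow] at h2
      exact mul_eq_right.1 h2
    let Z2 : Subgroup (H ⧸ (Cfsg.pPrimeCore 2 H)) :=
      { carrier := {a | a ∈ W0 ∧ (∀ c ∈ W0, a * c = c * a) ∧ a ^ 2 = 1}
        one_mem' := ⟨one_mem _, fun c _ => by rw [one_mul, mul_one], one_pow _⟩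
        mul_mem' := fun {a b} ha hb => ⟨mul_mem ha.1 hb.1, fun c hc => by
          rw [mul_assoc, hb.2.1 c hc, ← mul_assoc, ha.2.1 c hc, mul_assoc],
          by rw [(show Commute a b from ha.2.1 b hb.1).mul_pow, ha.2.2, hb.2.2, one_mul]⟩
        inv_mem' := fun {a} ha => ⟨inv_mem ha.1, fun c hc =>
          ((show Commute a c from ha.2.1 c hc).inv_left).eq, by rw [inv_pow, ha.2.2, inv_one]⟩ }
    haveI : Z2.Normal := ⟨fun a ha g => ⟨hW0n.conj_mem a ha.1 g, fun c hc => by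
      have h1 := ha.2.1 _ (hW0n.conj_mem c hc g⁻¹)
      rw [inv_inv] at h1
      calc g * a * g⁻¹ * c = g * (a * (g⁻¹ * c * g)) * g⁻¹ := by group
        _ = c * (g * a * g⁻¹) := by rw [h1]; group,
      by rw [conj_pow, ha.2.2, mul_one, mul_inv_cancel]⟩⟩
    have hcomm : ∀ a ∈ W0, ∀ b ∈ W0, a * b * a⁻¹ * b⁻¹ ∈ Z2 := fun a ha b hb =>
      ⟨mul_mem (mul_mem (mul_mem ha hb) (inv_mem ha)) (inv_mem hb),
        hcen b hb a (hCW (hW0C ha)), hcen' b hb a ha⟩
    have hCenL : ∀ q b, ∀ s : (B q b).L, (s : H) ∈ A → (∀ c ∈ W0, π (s : H) * c = c * π (s : H)) →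
        Cen (A.subgroupOf (B q b).L) s := fun q b s hs hc => ⟨mem_subgroupOf.2 hs, fun g hg =>
      Subtype.ext (hAinj _ hs _ (mem_subgroupOf.1 hg)
        (hc _ (mem_inf.1 (mem_subgroupOf.1 hg)).2))⟩
    have hcenτ : ∀ q b, ∀ z ∈ (P : Subgroup H), ∀ Zl : (B q b).L, (Zl : H) = z ^ 2 ^ n →
        ∀ g ∈ A.subgroupOf (B q b).L, Cen (A.subgroupOf (B q b).L) (Zl * g * Zl⁻¹ * g⁻¹) := by
      intro q b z hz Zl hZl g hg
      have hgA := mem_subgroupOf.1 hg
      refine hCenL q b _ ?_ fun c hc => ?_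
      · push_cast
        exact mul_mem (hconjA _ (hZl ▸ pow_mem hz _) _ hgA) (inv_mem hgA)
      · push_cast
        simp only [map_mul, map_inv, hZl, map_pow]
        exact hcen _ (mem_comap.1 (mem_inf.1 hgA).2) _ (hτW z hz) c hc
    set Zc := W0 ⊓ centralizer (W0 : Set (H ⧸ (Cfsg.pPrimeCore 2 H))) with hZc
    have hZY : Zc ≤ Y := hmin Zc inferInstance inf_le_left fun hc => hab fun a ha c' hc' =>
      mem_centralizer_iff.1 (mem_inf.1 (hc.ge hc')).2 a ha
    refine hwbad (hZY (mem_inf.2 ⟨twist_mem hW0n hw _ _, mem_centralizer_iff.2 fun g hg => ?_⟩))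
    obtain ⟨pg, hpg, rfl⟩ := hWP g (hCW (hW0C hg))
    have hpgA : pg ∈ A := mem_inf.2 ⟨hpg, hg⟩
    set d := (p * y) ^ 2 ^ n * (y ^ 2 ^ n)⁻¹ with hd
    have hdA' : d ∈ A := hdA p hpA
    have hone : d * pg * d⁻¹ * pg⁻¹ = 1 := by
      have hmem : d * pg * d⁻¹ * pg⁻¹ ∈ A :=
        mul_mem (mul_mem (mul_mem hdA' hpgA) (inv_mem hdA')) (inv_mem hpgA)
      refine sep _ (mem_inf.1 hmem).1 (hW0K (mem_inf.1 hmem).2) fun q b hL => ?_
      set f := (B q b).f
      have hdL : d ∈ (B q b).L := hAL q b d hdA'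
      set D : (B q b).L := ⟨d, hdL⟩
      set E : (B q b).L := ⟨pg, hAL q b pg hpgA⟩
      have hcm : f D * f E = f E * f D := by
        by_cases htL : t ∈ (B q b).L
        · set G' := A.subgroupOf (B q b).L
          set T' : (B q b).L := ⟨t, htL⟩
          set U' : (B q b).L := ⟨_, hAL q b _ (hu p hpA)⟩
          have hokt : Ok f T' := by
            have := hok q b htL 1 (one_mem _)
              (by rw [one_mul, ← ht, inv_mul_cancel]; exact one_mem _)
            convert this using 1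
            exact Subtype.ext (by simp [T', ht])
          have hpair : Pair f G' T' U' :=
            { grp := hGrp q b htL
              mem := mem_subgroupOf.2 (hu p hpA)
              ok := hokt
              ok' := hok q b htL p hpA _
              oks := fun k => by
                have huk := hu (p ^ k) (pow_mem hpA k)
                set Uk : (B q b).L := ⟨_, hAL q b _ huk⟩ with hUk
                have hsA : ((t⁻¹ * (p * y) ^ m) ^ k)⁻¹ * (t⁻¹ * (p ^ k * y) ^ m) ∈ A :=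
                  mul_mem (inv_mem (pow_mem (hu p hpA) k)) huk
                have hsZ : π (((t⁻¹ * (p * y) ^ m) ^ k)⁻¹ * (t⁻¹ * (p ^ k * y) ^ m)) ∈ Z2 := by
                  rw [← QuotientGroup.eq_one_iff (N := Z2)]
                  change QuotientGroup.mk' Z2 _ = 1
                  have h1 := twist_pow hcomm hw (π y) m k
                  simp only [map_mul, map_inv, map_pow] at h1
                  simp only [ht, map_mul, map_inv, map_pow, hpw]
                  rw [inv_mul_eq_one]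
                  set a := QuotientGroup.mk' Z2 (π y) ^ m
                  set v := (QuotientGroup.mk' Z2 w * QuotientGroup.mk' Z2 (π y)) ^ m
                  calc (a⁻¹ * v) ^ k = (a⁻¹ * (v * a⁻¹) * a⁻¹⁻¹) ^ k := by group
                    _ = a⁻¹ * (v * a⁻¹) ^ k * a⁻¹⁻¹ := conj_pow
                    _ = _ := by rw [← h1]; group
                refine ⟨(U' ^ k)⁻¹ * Uk, hCenL q b _ (by push_cast; exact hsA)
                  (by push_cast; exact hsZ.2.1), ?_, ?_⟩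
                · rw [show ((U' ^ k)⁻¹ * Uk) ^ 2 = 1 from Subtype.ext (hP1 _
                    (pow_mem (mem_inf.1 hsA).1 2) (by
                      push_cast
                      rw [map_pow]
                      exact hsZ.2.2)), map_one]
                · rw [mul_assoc, mul_inv_cancel_left]
                  exact hok q b htL (p ^ k) (pow_mem hpA k) _
              cen := fun g hg => hcenτ q b y hyP _ (by push_cast; exact ht2) g hg
              cen' := fun g hg => hcenτ q b (p * y) (mul_mem hp hyP) _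
                (by push_cast; exact hsq2 p) g hg }
          have key := commute_twist_aux (B q b).ne_two _ le_rfl f (B q b).sy (B q b).inv hpair E
            (mem_subgroupOf.2 hpgA)
          rwa [show (T' * U') ^ 2 * (T' ^ 2)⁻¹ = D from Subtype.ext (by
            simp only [Subgroup.coe_mul, SubmonoidClass.coe_pow, Subgroup.coe_inv, T', U', D,
              hsq2, ht2, hd])] at key
        · rw [show f D = 1 from hgood q b htL p hpA hdL, one_mul, mul_one]
      rw [show (⟨_, hL⟩ : (B q b).L) = D * E * D⁻¹ * E⁻¹ from rfl, map_mul, map_mul, map_mul, hcm,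
        mul_assoc (f E), ← map_mul f D, mul_inv_cancel, map_one, mul_one, ← map_mul, mul_inv_cancel,
        map_one]
    have h1 := congrArg π hone
    simp only [hd, map_mul, map_inv, map_pow, map_one, hpw] at h1
    rw [mul_inv_eq_one, mul_inv_eq_iff_eq_mul] at h1
    exact h1.symm

end Cfsg.Agent.TwoLen59
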