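import Cfsg.Agent.TwoLen59.Block
import Cfsg.Agent.FGS73.PLenTwoLocal
import Cfsg.Agent.Lib.Coprime.Action
import Cfsg.Agent.OddLocal44.Stability

/-!
The symplectic spaces attached to the weights of a critical `q`-subgroup of `O_{2'}(H)`, and the action
of the squares of a Sylow 2-subgroup on them.
-/

set_option autoImplicit false

namespace Cfsg.Agent.TwoLen59

open Subgroup Cfsg.Agent.FGS73
open scoped commutatorElement TensorProduct

universe u

/-- A symplectic space attached to one weight, with the alternative for elements of `P`. -/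
structure Blk (H : Type u) [Group H] (P : Subgroup H) (n : ℕ) where
  q : ℕ
  prime : Fact q.Prime
  ne_two : q ≠ 2
  M : Type u
  acg : AddCommGroup M
  mod : Module (ZMod q) M
  fin : Module.Finite (ZMod q) M
  L : Subgroup H
  f : L →* Module.End (ZMod q) M
  sy : Symp M (AlgebraicClosure (ZMod 2))
  inv : sy.Inv f
  mem : ∀ z ∈ P, z ^ 2 ^ n ∈ L
  alt : ∀ z ∈ P, (∀ hz : z ^ 2 ^ n ∈ L, f ⟨_, hz⟩ = 1) ∨ z ^ 2 ^ (n - 1) ∈ L
  ok : ∀ z ∈ P, ∀ ht : z ^ 2 ^ (n - 1) ∈ L, Ok f ⟨_, ht⟩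

attribute [instance] Blk.prime Blk.acg Blk.mod Blk.fin

local notation "K₂" => AlgebraicClosure (ZMod 2)

/-- The space of one weight. -/
theorem weight_block {H : Type u} [Group H] [Finite H] (P : Subgroup H) (N : Subgroup H)
    (hPN : P ≤ N) {T : Type u} [Group T] [Finite T]
    {U : Type u} [AddCommGroup U] [Module (AlgebraicClosure (ZMod 2)) U]
    [FiniteDimensional (AlgebraicClosure (ZMod 2)) U] {q n : ℕ} [Fact q.Prime] (hn : 1 ≤ n)
    (φ : N →* MulAut T) (hTq : IsPGroup q T) (hq2 : q ≠ 2)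
    (hcomm : ∀ a b : T, ⁅a, b⁆ ∈ center T) (hpow : ∀ t : T, t ^ q ∈ center T)
    (ρ : T →* Module.End (AlgebraicClosure (ZMod 2)) U)
    (σU : N →* Module.End (AlgebraicClosure (ZMod 2)) U)
    (hcompat : ∀ g t w, σU g (ρ t w) = ρ (φ g t) (σU g w))
    (hexp : ∀ z : N, (z : H) ∈ P → z ^ 2 ^ (n + 1) = 1)
    (hnil : ∀ z : N, (z : H) ∈ P → (σU z - 1) ^ (2 ^ (n + 1) - 1) = 0)
    (hfix : ∀ z : N, (z : H) ∈ P → ∀ w ∈ center T, φ (z ^ 2 ^ n) w = w)
    (ψ : T → AlgebraicClosure (ZMod 2))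
    (hψ : ∃ v₀ : U, v₀ ≠ 0 ∧ ∀ z ∈ center T, ρ z v₀ = ψ z • v₀) :
    ∃ b : Blk H P n, (∀ c : N, (∀ z ∈ center T, φ c z = z) → (c : H) ∈ b.L) ∧
      ∀ (c : N) (hc : (c : H) ∈ b.L), b.f ⟨c, hc⟩ = 1 →
        ∀ t s : T, ψ ⁅s, t⁻¹ * φ c t⁆ = 1 := by
  classical
  haveI : CharP K₂ 2 :=
    charP_of_injective_algebraMap (algebraMap (ZMod 2) (AlgebraicClosure (ZMod 2))).injective 2
  cases nonempty_fintype T
  haveI : Fact (Nat.Prime 2) := ⟨Nat.prime_two⟩
  obtain ⟨v₀, hv₀, hψv⟩ := hψ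
  have hqp : q.Prime := Fact.out
  have hTK : (Nat.card T : K₂) ≠ 0 := by
    rw [Ne, CharP.cast_eq_zero_iff K₂ 2]
    intro hd
    obtain ⟨l, hl⟩ := IsPGroup.iff_card.1 hTq
    rw [hl] at hd
    exact hq2 ((Nat.prime_dvd_prime_iff_eq Nat.prime_two hqp).1
      (Nat.prime_two.dvd_of_dvd_pow hd)).symm
  have heig : ∀ a b : K₂, a • v₀ = b • v₀ → a = b := fun a b h => smul_left_injective K₂ hv₀ h
  have hψmul : ∀ a ∈ center T, ∀ b ∈ center T, ψ (a * b) = ψ a * ψ b := by
    intro a ha b hb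
    apply heig
    rw [← hψv _ (mul_mem ha hb), map_mul, Module.End.mul_apply, hψv b hb, map_smul, hψv a ha,
      smul_smul, mul_comm]
  have hψ1 : ψ 1 = 1 := heig _ _ (by rw [← hψv 1 (one_mem _), map_one, one_smul]; rfl)
  have hcen : ∀ (g : N), ∀ z ∈ center T, φ g z ∈ center T := fun g z hz => by
    rw [mem_center_iff] at hz ⊢
    intro a
    obtain ⟨a, rfl⟩ := (φ g).surjective a
    rw [← map_mul, ← map_mul, hz]
  have hbr : ∀ a b t : T, ψ ⁅t, a * b⁆ = ψ ⁅t, a⁆ * ψ ⁅t, b⁆ := by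
    intro a b t
    have e : ⁅t, a * b⁆ = ⁅t, a⁆ * ⁅t, b⁆ := by
      rw [show ⁅t, a * b⁆ = ⁅t, a⁆ * (a * ⁅t, b⁆ * a⁻¹) by
        simp [commutatorElement_def, mul_assoc], mem_center_iff.1 (hcomm t b) a,
        mul_inv_cancel_right]
    rw [e, hψmul _ (hcomm _ _) _ (hcomm _ _)]
  let R : Subgroup T :=
    { carrier := {a | ∀ t : T, ψ ⁅t, a⁆ = 1}
      one_mem' := fun t => by simp [hψ1]
      mul_mem' := fun {a b} ha hb t => by rw [hbr, ha t, hb t, one_mul]
      inv_mem' := fun {a} ha t => by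
        have h := hbr a a⁻¹ t
        rw [mul_inv_cancel, ha t, one_mul, commutatorElement_one_right, hψ1] at h
        exact h.symm }
  have hZR : center T ≤ R := fun z hz t => by
    rw [show ⁅t, z⁆ = 1 from commutatorElement_eq_one_iff_mul_comm.2 (mem_center_iff.1 hz t), hψ1]
  haveI hRn : R.Normal := ⟨fun a ha g => by
    rw [show g * a * g⁻¹ = ⁅g, a⁆ * a by simp [commutatorElement_def, mul_assoc]]
    exact R.mul_mem (hZR (hcomm _ _)) ha⟩
  letI : CommGroup (T ⧸ R) :=
    { (inferInstance : Group (T ⧸ R)) with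
      mul_comm := fun a b => by
        induction a using QuotientGroup.induction_on with
        | H a =>
          induction b using QuotientGroup.induction_on with
          | H b =>
            rw [← QuotientGroup.mk_mul, ← QuotientGroup.mk_mul, QuotientGroup.eq]
            rw [show (a * b)⁻¹ * (b * a) = ⁅b⁻¹, a⁻¹⁆ by simp [commutatorElement_def, mul_assoc]]
            exact hZR (hcomm _ _) }
  haveI : Module (ZMod q) (Additive (T ⧸ R)) := AddCommGroup.zmodModule fun w => by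
    obtain ⟨a, ha⟩ := QuotientGroup.mk_surjective w.toMul
    change Additive.ofMul (w.toMul ^ q) = 0
    rw [← ha, ← QuotientGroup.mk_pow, (QuotientGroup.eq_one_iff _).2 (hZR (hpow a))]
    rfl
  haveI : Module.Finite (ZMod q) (Additive (T ⧸ R)) := Module.Finite.of_finite
  let cls : T → Additive (T ⧸ R) := fun a => Additive.ofMul (QuotientGroup.mk a)
  have hcls0 : ∀ {a : T}, cls a = 0 ↔ a ∈ R := fun {a} => QuotientGroup.eq_one_iff a
  have hclsdiv : ∀ a b : T, cls (a⁻¹ * b) = cls b - cls a := fun a b => by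
    change Additive.ofMul ((QuotientGroup.mk a : T ⧸ R)⁻¹ * QuotientGroup.mk b) = _
    rw [mul_comm, ← div_eq_mul_inv]; rfl
  have hclssurj : Function.Surjective cls := fun w => by
    obtain ⟨a, ha⟩ := QuotientGroup.mk_surjective w.toMul
    exact ⟨a, congrArg Additive.ofMul ha⟩
  -- the stabiliser of the weight
  let L : Subgroup N :=
    { carrier := {g | ∀ z ∈ center T, ψ (φ g z) = ψ z}
      one_mem' := fun z _ => by simp
      mul_mem' := fun {a b} ha hb z hz => by
        rw [map_mul, MulAut.mul_apply, ha _ (hcen b z hz), hb z hz]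
      inv_mem' := fun {a} ha z hz => by
        have := ha _ (hcen a⁻¹ z hz)
        rw [← MulAut.mul_apply, ← map_mul, mul_inv_cancel, map_one, MulAut.one_apply] at this
        exact this.symm }
  have hRinv : ∀ g ∈ L, ∀ a ∈ R, φ g a ∈ R := by
    intro g hg a ha s
    obtain ⟨s, rfl⟩ := (φ g).surjective s
    rw [← map_commutatorElement, hg _ (hcomm s a)]
    exact ha s
  let f : L →* Module.End (ZMod q) (Additive (T ⧸ R)) :=
    { toFun := fun g => AddMonoidHom.toZModLinearMap q (MonoidHom.toAdditive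
        (QuotientGroup.map R R (φ (g : N)).toMonoidHom (fun a ha => hRinv g g.2 a ha)))
      map_one' := LinearMap.ext fun w => by
        obtain ⟨a, rfl⟩ := hclssurj w
        change cls (φ ((1 : L) : N) a) = cls a
        simp
      map_mul' := fun g g' => LinearMap.ext fun w => by
        obtain ⟨a, rfl⟩ := hclssurj w
        change cls (φ ((g * g' : L) : N) a) = cls (φ (g : N) (φ (g' : N) a))
        rw [Subgroup.coe_mul, map_mul, MulAut.mul_apply] }
  have hfcls : ∀ (g : L) (a : T), f g (cls a) = cls (φ (g : N) a) := fun g a => rfl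
  have hfix1 : ∀ (g : L), f g = 1 → ∀ t s : T, ψ ⁅s, t⁻¹ * φ (g : N) t⁆ = 1 := fun g hg t s => by
    have h1 := hfcls g t
    rw [hg, Module.End.one_apply, eq_comm, ← sub_eq_zero, ← hclsdiv, hcls0] at h1
    exact h1 s
  -- the pairing
  have hsym : ∀ a b : T, ψ ⁅a, b⁆ * ψ ⁅b, a⁆ = 1 := fun a b => by
    rw [← hψmul _ (hcomm a b) _ (hcomm b a), ← commutatorElement_inv b a, inv_mul_cancel, hψ1]
  have hblft : ∀ a b t : T, ψ ⁅a * b, t⁆ = ψ ⁅a, t⁆ * ψ ⁅b, t⁆ := fun a b t => by
    have h0 : ψ ⁅t, a * b⁆ ≠ 0 := left_ne_zero_of_mul_eq_one (hsym t (a * b))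
    refine mul_left_cancel₀ h0 ?_
    rw [hsym, hbr, mul_mul_mul_comm, hsym, hsym, one_mul]
  let rep : Additive (T ⧸ R) → T := Function.surjInv hclssurj
  have hrep : ∀ w, cls (rep w) = w := Function.surjInv_eq hclssurj
  let β : Additive (T ⧸ R) → Additive (T ⧸ R) → K₂ := fun a b => ψ ⁅rep a, rep b⁆
  have hβ : ∀ a b : T, β (cls a) (cls b) = ψ ⁅a, b⁆ := by
    intro a b
    have hr : ∀ x, x⁻¹ * rep (cls x) ∈ R := fun x => by
      rw [← hcls0, hclsdiv, hrep, sub_self]
    have h1 : ∀ x r s : T, r ∈ R → ψ ⁅x * r, s⁆ = ψ ⁅x, s⁆ := fun x r s hr => by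
      have h2 := hsym s r
      rw [hr s, one_mul] at h2
      rw [hblft, h2, mul_one]
    have h2 : ∀ x r s : T, r ∈ R → ψ ⁅s, x * r⁆ = ψ ⁅s, x⁆ := fun x r s hr => by
      rw [hbr, hr s, mul_one]
    change ψ ⁅rep (cls a), rep (cls b)⁆ = _
    rw [show rep (cls a) = a * (a⁻¹ * rep (cls a)) from (mul_inv_cancel_left _ _).symm,
      show rep (cls b) = b * (b⁻¹ * rep (cls b)) from (mul_inv_cancel_left _ _).symm,
      h1 _ _ _ (hr a), h2 _ _ _ (hr b)]
  have hclsadd : ∀ a b : T, cls a + cls b = cls (a * b) := fun a b => rfl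
  let sy : Symp (Additive (T ⧸ R)) K₂ :=
    { β := β
      add_left := fun x y z => by
        obtain ⟨a, rfl⟩ := hclssurj x; obtain ⟨b, rfl⟩ := hclssurj y
        obtain ⟨c, rfl⟩ := hclssurj z
        rw [hclsadd, hβ, hβ, hβ, hblft]
      add_right := fun x y z => by
        obtain ⟨a, rfl⟩ := hclssurj x; obtain ⟨b, rfl⟩ := hclssurj y
        obtain ⟨c, rfl⟩ := hclssurj z
        rw [hclsadd, hβ, hβ, hβ, hbr]
      self := fun x => by
        obtain ⟨a, rfl⟩ := hclssurj x
        rw [hβ, commutatorElement_self, hψ1]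
      nondeg := fun x hx => by
        obtain ⟨a, rfl⟩ := hclssurj x
        refine hcls0.2 fun t => ?_
        have h1 := hx (cls t)
        rw [hβ] at h1
        have h2 := hsym t a
        rwa [h1, mul_one] at h2 }
  have hinv : sy.Inv f := fun g x y => by
    obtain ⟨a, rfl⟩ := hclssurj x; obtain ⟨b, rfl⟩ := hclssurj y
    change β _ _ = β _ _
    rw [hfcls, hfcls, hβ, hβ, ← map_commutatorElement, g.2 _ (hcomm a b)]
  -- the weight space
  let LU : Submodule K₂ U :=
    { carrier := {w | ∀ z ∈ center T, ρ z w = ψ z • w}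
      zero_mem' := fun z _ => by simp
      add_mem' := fun {a b} ha hb z hz => by rw [map_add, ha z hz, hb z hz, smul_add]
      smul_mem' := fun s {a} ha z hz => by rw [map_smul, ha z hz, smul_comm] }
  have key : ∀ y : N, (y : H) ∈ P → ∃ hτL : y ^ 2 ^ n ∈ L, f ⟨_, hτL⟩ = 1 ∨
      ∃ ht : y ^ 2 ^ (n - 1) ∈ L, Ok f ⟨_, ht⟩ := by
    intro y hy
    have hyexp := hexp y hy
    have hτL : y ^ 2 ^ n ∈ L := fun z hz => by rw [hfix y hy z hz]
    have hit : ∀ (k : ℕ) (a : T), (⇑(φ y).toMonoidHom)^[k] a = φ (y ^ k) a := by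
      intro k
      induction k with
      | zero => intro a; simp
      | succ k ih =>
        intro a
        rw [Function.iterate_succ_apply', ih, pow_succ', map_mul]
        rfl
    have hper : ∀ a : T, (⇑(φ y).toMonoidHom)^[2 ^ (n + 1)] a = a := fun a => by
      rw [hit, hyexp, map_one]; rfl
    have hlt : 2 ^ (n + 1) - 1 < 2 ^ (n + 1) := Nat.sub_lt (pow_pos two_pos _) one_pos
    have hnil := hnil y hy
    obtain ⟨ψ', ⟨v, hvL, hv, hψ'v⟩, -, -, -, hR⟩ := hhb_core_weight (φ y).toMonoidHom hper ρ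
      (σU y) (by rw [← map_pow, hyexp, map_one]) hnil hlt (hcompat y) hTK hcomm LU
      (fun h => hv₀ (by
        have : v₀ ∈ LU := hψv
        rwa [h, Submodule.mem_bot] at this))
      (fun z hz w hw a ha => by rw [hw z hz, map_smul, hw a ha, smul_comm])
    have hψeq : ∀ z ∈ center T, ψ' z = ψ z := fun z hz =>
      smul_left_injective K₂ hv ((hψ'v z hz).symm.trans (hvL z hz))
    rcases hR R (fun a => forall_congr' fun s => by rw [hψeq _ (hcomm s a)]) with h | ⟨j, hj⟩
    · refine ⟨hτL, Or.inl ?_⟩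
      refine LinearMap.ext fun w => ?_
      obtain ⟨a, rfl⟩ := hclssurj w
      rw [Module.End.one_apply, hfcls, ← sub_eq_zero, ← hclsdiv, hcls0, ← hit]
      exact h a
    set B := 2 ^ j with hB
    have hμ : y ^ B ∈ L := by
      intro z hz
      rw [← hψeq _ (hcen _ z hz), ← hit, hj.weight z hz, hψeq z hz]
    set m := n + 1 - j with hmdef
    have hm2 : 2 ≤ m := by
      by_contra hlt'
      have := hj.three_le
      have h2 : 2 ^ (n + 1 - j) ≤ 2 ^ 1 := Nat.pow_le_pow_right two_pos (by omega)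
      omega
    have hBN : B * 2 ^ m = 2 ^ (n + 1) := by
      rw [hB, ← pow_add]; congr 1; have := hj.le; omega
    have hBn : B * 2 ^ (m - 1) = 2 ^ n := by
      rw [hB, ← pow_add]; congr 1; have := hj.le; omega
    -- the size of the prime
    obtain ⟨aT, haT⟩ := IsPGroup.iff_card.1 hTq
    have hcd := hj.card_dvd
    rw [haT] at hcd
    obtain ⟨k, -, hk⟩ := (Nat.dvd_prime_pow hqp).1 ((dvd_pow_self _ two_ne_zero).trans hcd)
    have hmq : 2 ^ m - 1 = q := by
      rw [hk, mersenne_exponent hqp hm2 hk, pow_one]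
    set μ : L := ⟨y ^ B, hμ⟩
    have hμτ : μ ^ 2 ^ (m - 1) = ⟨_, hτL⟩ := Subtype.ext (by
      rw [SubmonoidClass.coe_pow, ← pow_mul, hBn])
    set E := closure (Set.range fun a => a⁻¹ * (⇑(φ y).toMonoidHom)^[2 ^ n] a) with hE
    set Tm := f ⟨_, hτL⟩ with hTmdef
    have hTm : ∀ a, (Tm - 1) (cls a) = cls (a⁻¹ * (⇑(φ y).toMonoidHom)^[2 ^ n] a) := fun a => by
      rw [LinearMap.sub_apply, Module.End.one_apply, hfcls, hclsdiv, hit]
    have hrE : ∀ w, w ∈ LinearMap.range (Tm - 1) ↔ ∃ e ∈ E, w = cls e := by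
      intro w
      constructor
      · rintro ⟨u, rfl⟩
        obtain ⟨a, rfl⟩ := hclssurj u
        exact ⟨_, subset_closure ⟨a, rfl⟩, hTm a⟩
      · rintro ⟨e, he, rfl⟩
        induction he using Subgroup.closure_induction with
        | mem z hz =>
          obtain ⟨a, rfl⟩ := hz
          exact ⟨cls a, hTm a⟩
        | one => exact Submodule.zero_mem _
        | mul z z' _ _ hz hz' => exact Submodule.add_mem _ hz hz'
        | inv z _ hz => exact Submodule.neg_mem _ hz
    have hEinv : ∀ e ∈ E, φ (y ^ B) e ∈ E := fun e he => by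
      rw [← hit]; exact hj.inv e he
    set W := LinearMap.range (Tm - 1) with hW
    -- the plane
    have hWdim : Module.finrank (ZMod q) W = 2 := by
      let gE : E →* T ⧸ R := (QuotientGroup.mk' R).comp E.subtype
      have h1 : Nat.card W = Nat.card gE.range := by
        refine Nat.card_congr
          { toFun := fun w => ⟨Additive.toMul (w : Additive (T ⧸ R)), by
              obtain ⟨e, he, hwe⟩ := (hrE _).1 w.2
              exact ⟨⟨e, he⟩, by rw [hwe]; rfl⟩⟩
            invFun := fun x => ⟨Additive.ofMul (x : T ⧸ R), by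
              obtain ⟨e, he⟩ := x.2
              refine (hrE _).2 ⟨e, e.2, ?_⟩
              rw [← he]; rfl⟩
            left_inv := fun w => rfl
            right_inv := fun x => rfl }
      have h2 : gE.ker = R.subgroupOf E := by
        ext e
        exact QuotientGroup.eq_one_iff (e : T)
      rw [← Subgroup.index_ker gE, h2, hj.index_eq, Module.natCard_eq_pow_finrank (K := ZMod q),
        Nat.card_zmod, hmq] at h1
      exact Nat.pow_right_injective hqp.two_le h1
    have hTp : ¬ 2 ∣ Nat.card T := fun hdv => hTK ((CharP.cast_eq_zero_iff K₂ 2 _).2 hdv)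
    let τT : T →* T := (φ (y ^ 2 ^ n)).toMonoidHom
    have hτTp : ∀ z, (⇑τT)^[2] z = z := fun z => by
      change φ (y ^ 2 ^ n) (φ (y ^ 2 ^ n) z) = z
      rw [← MulAut.mul_apply, ← map_mul, ← pow_add, ← two_mul, ← pow_succ', hyexp, map_one]
      rfl
    have hsame : ∀ (S : Subgroup T), (∀ e ∈ S, τT e ∈ S) → ∀ a, a⁻¹ * τT a ∈ S →
        ∃ u, φ (y ^ B) u * u⁻¹ ∈ R ∧ a⁻¹ * u ∈ S := by
      intro S hS a ha
      obtain ⟨u, hu, hau⟩ := exists_fixed_mul_prime τT hτTp hTp S hS a ha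
      refine ⟨u, ?_, hau⟩
      have h1 := hj.fix_mem u (by rw [hit]; exact hu)
      rw [hit, ← hB] at h1
      have := hRn.conj_mem _ h1 u
      convert this using 1
      group
    have hcls_u : ∀ u, φ (y ^ B) u * u⁻¹ ∈ R → cls (φ (y ^ B) u) = cls u := fun u hu => by
      rw [← sub_eq_zero]
      change Additive.ofMul ((QuotientGroup.mk (φ (y ^ B) u) : T ⧸ R) / QuotientGroup.mk u) = 0
      rw [← QuotientGroup.mk_div, div_eq_mul_inv, (QuotientGroup.eq_one_iff _).2 hu]
      rfl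
    have hrange : ∀ w, (f μ - 1) w ∈ W := by
      intro w
      obtain ⟨a, rfl⟩ := hclssurj w
      have hτE : ∀ e ∈ E, τT e ∈ E := by
        intro e he
        have h1 : E ≤ E.comap τT := by
          rw [hE, closure_le]
          rintro _ ⟨b, rfl⟩
          refine subset_closure ⟨τT b, ?_⟩
          change (τT b)⁻¹ * (⇑(φ y).toMonoidHom)^[2 ^ n] (τT b) =
            τT (b⁻¹ * (⇑(φ y).toMonoidHom)^[2 ^ n] b)
          rw [hit, hit, map_mul, map_inv]
          rfl
        exact h1 he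
      obtain ⟨u, hu, hau⟩ := hsame E hτE a (by
        change a⁻¹ * φ (y ^ 2 ^ n) a ∈ E
        rw [← hit]; exact subset_closure ⟨a, rfl⟩)
      rw [LinearMap.sub_apply, Module.End.one_apply, hfcls]
      refine (hrE _).2 ⟨(φ (y ^ B) (a⁻¹ * u))⁻¹ * (a⁻¹ * u),
        E.mul_mem (inv_mem (hEinv _ hau)) hau, ?_⟩
      rw [hclsdiv, hclsdiv, map_mul, map_inv, hclsdiv, hcls_u u hu]
      change cls (φ (y ^ B) a) - cls a = _
      abel
    have hker : LinearMap.ker (Tm - 1) ≤ LinearMap.ker (f μ - 1) := by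
      intro w hw
      obtain ⟨a, rfl⟩ := hclssurj w
      rw [LinearMap.mem_ker, hTm, hcls0, hit] at hw
      obtain ⟨u, hu, hau⟩ := hsame R (hRinv _ hτL) a hw
      have h1 : cls u = cls a := by
        rw [← sub_eq_zero, ← hclsdiv, hcls0]; exact hau
      rw [LinearMap.mem_ker, LinearMap.sub_apply, Module.End.one_apply, ← h1, hfcls, hcls_u u hu,
        sub_self]
    have hjn : j + (m - 2) = n - 1 := by have := hj.le; omega
    have htt : y ^ 2 ^ (n - 1) = (y ^ B) ^ 2 ^ (m - 2) := by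
      rw [← pow_mul, hB, ← pow_add, hjn]
    refine ⟨hτL, Or.inr ⟨htt ▸ pow_mem hμ _, ?_, Or.inr ⟨?_, ?_⟩⟩⟩
    · convert map_one f using 2
      refine Subtype.ext ?_
      rw [SubmonoidClass.coe_pow, ← pow_mul, show 2 ^ (n - 1) * 4 = 2 ^ (n + 1) by
        rw [show (4 : ℕ) = 2 ^ 2 by rfl, ← pow_add]; congr 1; omega, hyexp]
      rfl
    · refine le_trans ?_
        ((Submodule.finrank_mono (by rintro _ ⟨w, rfl⟩; exact hrange w)).trans hWdim.le :
          Module.finrank (ZMod q) (LinearMap.range (f μ - 1)) ≤ 2)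
      rw [show (⟨y ^ 2 ^ (n - 1), htt ▸ pow_mem hμ _⟩ : L) = μ ^ 2 ^ (m - 2) from
        Subtype.ext htt, map_pow, ← mul_geom_sum]
      exact Submodule.finrank_mono (LinearMap.range_comp_le_range _ _)
    · rw [show (⟨y ^ 2 ^ (n - 1), htt ▸ pow_mem hμ _⟩ : L) ^ 2 = ⟨_, hτL⟩ from Subtype.ext (by
        rw [SubmonoidClass.coe_pow, ← pow_mul, ← pow_succ, Nat.sub_add_cancel hn])]
      refine hker.trans ?_
      rw [show (⟨y ^ 2 ^ (n - 1), htt ▸ pow_mem hμ _⟩ : L) = μ ^ 2 ^ (m - 2) from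
        Subtype.ext htt, map_pow, ← geom_sum_mul]
      exact LinearMap.ker_le_ker_comp _ _
  -- transport to `H`
  let L' : Subgroup H := L.map N.subtype
  let e : L ≃* L' := L.equivMapOfInjective N.subtype N.subtype_injective
  have he : ∀ (c : N) (h : (c : H) ∈ L'), ∃ hc : c ∈ L, e.symm ⟨c, h⟩ = ⟨c, hc⟩ := by
    intro c h
    obtain ⟨c', hc', hcc⟩ := h
    obtain rfl : c' = c := Subtype.ext hcc
    exact ⟨hc', e.symm_apply_eq.2 (Subtype.ext rfl)⟩
  refine ⟨{ q := q, prime := inferInstance, ne_two := hq2, M := Additive (T ⧸ R),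
            acg := inferInstance, mod := inferInstance, fin := inferInstance, L := L',
            f := f.comp e.symm.toMonoidHom, sy := sy, inv := fun g a b => hinv _ a b,
            mem := ?_, alt := ?_, ok := ?_ }, fun c hc => ⟨c, fun z hz => by rw [hc z hz], rfl⟩,
    fun c hc h1 => ?_⟩
  · intro z hz
    obtain ⟨h, -⟩ := key ⟨z, hPN hz⟩ hz
    exact ⟨_, h, by simp⟩
  · intro z hz
    obtain ⟨h, h'⟩ := key ⟨z, hPN hz⟩ hz
    rcases h' with h' | ⟨ht, -⟩
    · left
      intro hz'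
      obtain ⟨hc, hce⟩ := he (⟨z, hPN hz⟩ ^ 2 ^ n) (by simpa using hz')
      rw [← h']
      change f (e.symm _) = _
      exact congrArg f ((congrArg e.symm (Subtype.ext (by simp))).trans hce)
    · right
      exact ⟨_, ht, by simp⟩
  · intro z hz ht
    obtain ⟨hc, hce⟩ := he (⟨z, hPN hz⟩ ^ 2 ^ (n - 1)) (by simpa using ht)
    obtain ⟨h, h'⟩ := key ⟨z, hPN hz⟩ hz
    have hval : ∀ k : ℕ, (f.comp e.symm.toMonoidHom) (⟨z ^ 2 ^ (n - 1), ht⟩ ^ k) =
        f (⟨_, hc⟩ ^ k) := by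
      intro k
      rw [map_pow, map_pow]
      congr 1
      change f (e.symm _) = _
      exact congrArg f ((congrArg e.symm (Subtype.ext (by simp))).trans hce)
    have h1 := hval 1
    rw [pow_one, pow_one] at h1
    have hok : Ok f (⟨_, hc⟩ : L) := by
      rcases h' with h' | ⟨_, h'⟩
      · have h2 : (⟨_, hc⟩ : L) ^ 2 = ⟨_, h⟩ := Subtype.ext (by
          rw [SubmonoidClass.coe_pow, ← pow_mul, ← pow_succ, Nat.sub_add_cancel hn])
        refine ⟨?_, Or.inl (by rw [h2, h'])⟩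
        rw [show 4 = 2 * 2 from rfl, pow_mul, map_pow, h2, h', one_pow]
      · exact h'
    unfold Ok at hok ⊢
    rw [hval, hval, h1]
    exact hok
  · obtain ⟨hc', hce⟩ := he c hc
    refine hfix1 ⟨c, hc'⟩ ?_
    rw [← hce]
    exact h1

end Cfsg.Agent.TwoLen59
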